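import Cfsg.Agent.BrauerSuzukiWall.Classes
import Mathlib

/-!
Centralisers of elements outside the conjugates of `K`: inversion, conjugacy, and counting.
-/

set_option autoImplicit false

namespace CfsgLib.BrauerSuzukiWall

open Cfsg CfsgLib.Chars

variable {G : Type*} [Group G] [Finite G]

theorem inv_eq_conj_of_pair {u g : G} (hu : orderOf u = 2) (hug : orderOf (u * g) = 2) :
    u * g * u⁻¹ = g⁻¹ := by
  rw [inv_eq_of_mul_eq_one_right (orderOf_eq_two_iff'.mp hu).1]
  refine eq_inv_of_mul_eq_one_left ?_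
  rw [← (orderOf_eq_two_iff'.mp hug).1]; group

theorem pair_of_inverts {u g : G} (hu : orderOf u = 2) (hg : orderOf g ≠ 2)
    (h : u * g * u⁻¹ = g⁻¹) : orderOf (u * g) = 2 := by
  have hu2 := (orderOf_eq_two_iff'.mp hu).1
  rw [inv_eq_of_mul_eq_one_right hu2] at h
  refine orderOf_eq_two_iff'.mpr ⟨?_, fun e => hg ?_⟩
  · rw [← mul_assoc, h, inv_mul_cancel]
  · rw [eq_inv_of_mul_eq_one_right e, inv_eq_of_mul_eq_one_right hu2, hu]

/-- Enough inverting involutions force an abelian centraliser inverted by each of them. -/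
theorem inverted_of_pairs {g : G} (hpos : 0 < numPairs g)
    (hdvd : Nat.card (Subgroup.centralizer ({g} : Set G)) ∣ numPairs g) :
    Nat.card (Subgroup.centralizer ({g} : Set G)) = numPairs g ∧
      (∀ x ∈ Subgroup.centralizer ({g} : Set G), ∀ y ∈ Subgroup.centralizer ({g} : Set G),
        x * y = y * x) ∧
      ∀ u : G, orderOf u = 2 → orderOf (u * g) = 2 →
        ∀ c ∈ Subgroup.centralizer ({g} : Set G), u * c * u⁻¹ = c⁻¹ := by
  set C := Subgroup.centralizer ({g} : Set G) with hC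
  have key : ∀ u : {u : G // orderOf u = 2 ∧ orderOf (u * g) = 2},
      ∀ v : {u : G // orderOf u = 2 ∧ orderOf (u * g) = 2}, u.1 * v.1 ∈ C := by
    intro u v
    have h1 := inv_eq_conj_of_pair u.2.1 u.2.2
    have h2 := inv_eq_conj_of_pair v.2.1 v.2.2
    rw [hC, Subgroup.mem_centralizer_singleton_iff]
    calc u.1 * v.1 * g = u.1 * (v.1 * g * v.1⁻¹) * v.1 := by group
      _ = u.1 * g⁻¹ * u.1⁻¹ * (u.1 * v.1) := by rw [h2]; group
      _ = (u.1 * g * u.1⁻¹)⁻¹ * (u.1 * v.1) := by group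
      _ = g * (u.1 * v.1) := by rw [h1, inv_inv]
  have hall : ∀ u : {u : G // orderOf u = 2 ∧ orderOf (u * g) = 2},
      Function.Bijective fun v => (⟨u.1 * v.1, key u v⟩ : C) := by
    intro u
    have hinj : Function.Injective fun v => (⟨u.1 * v.1, key u v⟩ : C) := fun v w e =>
      Subtype.ext (mul_left_cancel (congrArg Subtype.val e))
    exact hinj.bijective_of_nat_card_le (Nat.le_of_dvd hpos hdvd)
  haveI : Nonempty {u : G // orderOf u = 2 ∧ orderOf (u * g) = 2} :=
    (Nat.card_pos_iff.mp hpos).1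
  obtain ⟨u₀⟩ := this
  have hinv : ∀ u : {u : G // orderOf u = 2 ∧ orderOf (u * g) = 2}, ∀ c ∈ C,
      u.1 * c * u.1⁻¹ = c⁻¹ := by
    intro u c hc
    obtain ⟨v, hv⟩ := (hall u).2 ⟨c, hc⟩
    have hv' : u.1 * v.1 = c := congrArg Subtype.val hv
    have hu2 := inv_eq_of_mul_eq_one_right (orderOf_eq_two_iff'.mp u.2.1).1
    have hu1 := (orderOf_eq_two_iff'.mp u.2.1).1
    have hv2 := inv_eq_of_mul_eq_one_right (orderOf_eq_two_iff'.mp v.2.1).1
    rw [← hv', mul_inv_rev, hv2, hu2, ← mul_assoc, hu1, one_mul]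
  refine ⟨(Nat.card_eq_of_bijective _ (hall u₀)).symm, fun x hx y hy => ?_,
    fun u h1 h2 => hinv ⟨u, h1, h2⟩⟩
  have h1 := hinv u₀ _ (C.mul_mem hx hy)
  rw [show u₀.1 * (x * y) * u₀.1⁻¹ = u₀.1 * x * u₀.1⁻¹ * (u₀.1 * y * u₀.1⁻¹) by group,
    hinv u₀ x hx, hinv u₀ y hy, mul_inv_rev] at h1
  exact inv_injective (by rw [mul_inv_rev, mul_inv_rev]; exact h1.symm)

/-- An element inverted by conjugation, of odd order, is inverted by an involution. -/
theorem exists_involution_inverting {g c : G} (hg : Odd (orderOf g)) (hg1 : g ≠ 1)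
    (hC : Odd (Nat.card (Subgroup.centralizer ({g} : Set G)))) (h : c * g * c⁻¹ = g⁻¹) :
    0 < numPairs g := by
  obtain ⟨i, m, hm, hc⟩ := Nat.exists_eq_two_pow_mul_odd (orderOf_pos c).ne'
  set u := c ^ m with hu
  have hsq : ∀ j : ℕ, c ^ (2 * j) * g * (c ^ (2 * j))⁻¹ = g := by
    intro j
    induction j with
    | zero => simp
    | succ n ih =>
      have h2 : c * g⁻¹ * c⁻¹ = g := by
        rw [show c * g⁻¹ * c⁻¹ = (c * g * c⁻¹)⁻¹ by group, h, inv_inv]
      calc c ^ (2 * (n + 1)) * g * (c ^ (2 * (n + 1)))⁻¹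
          = c * (c * (c ^ (2 * n) * g * (c ^ (2 * n))⁻¹) * c⁻¹) * c⁻¹ := by
            rw [show 2 * (n + 1) = 1 + (1 + 2 * n) by ring, pow_add, pow_add, pow_one]; group
        _ = g := by rw [ih, h, h2]
  obtain ⟨j, hj⟩ := hm
  have hinv : u * g * u⁻¹ = g⁻¹ := by
    rw [hu, hj, pow_succ']
    calc c * c ^ (2 * j) * g * (c * c ^ (2 * j))⁻¹ = c * (c ^ (2 * j) * g * (c ^ (2 * j))⁻¹) * c⁻¹ := by
          group
      _ = g⁻¹ := by rw [hsq, h]
  have hmem : u * u ∈ Subgroup.centralizer ({g} : Set G) := by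
    rw [Subgroup.mem_centralizer_singleton_iff]
    have h3 := hsq m
    rw [two_mul, pow_add, ← hu] at h3
    exact (mul_inv_eq_iff_eq_mul.mp h3)
  have hu2 : u * u = 1 := by
    have h1 := Subgroup.orderOf_dvd_natCard _ hmem
    have h2 : orderOf (u * u) ∣ 2 ^ i := by
      refine orderOf_dvd_of_pow_eq_one ?_
      rw [← pow_two, ← pow_mul, hu, ← pow_mul,
        show m * (2 * 2 ^ i) = orderOf c * 2 by rw [hc]; ring, pow_mul, pow_orderOf_eq_one, one_pow]
    have := Nat.eq_one_of_dvd_coprimes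
      (Nat.Coprime.pow_left i (Nat.coprime_two_left.mpr hC)) h2 h1
    exact orderOf_eq_one_iff.mp this
  have hu1 : u ≠ 1 := fun e => by
    rw [e, one_mul, inv_one, mul_one] at hinv
    have h2 : orderOf g ∣ 2 := orderOf_dvd_of_pow_eq_one (by
      rw [pow_two]; nth_rewrite 1 [hinv]; exact inv_mul_cancel g)
    rcases (Nat.dvd_prime Nat.prime_two).mp h2 with e | e
    · exact hg1 (orderOf_eq_one_iff.mp e)
    · rw [e] at hg; exact absurd hg (by decide)
  haveI : Nonempty {u : G // orderOf u = 2 ∧ orderOf (u * g) = 2} :=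
    ⟨⟨u, orderOf_eq_two_iff'.mpr ⟨hu2, hu1⟩, pair_of_inverts (orderOf_eq_two_iff'.mpr ⟨hu2, hu1⟩)
      (fun e => by rw [e] at hg; exact absurd hg (by decide)) hinv⟩⟩
  exact Nat.card_pos

variable {t : G} {K : Subgroup G} {s : G} {a : IrrCharacter G} {ε M : ℤ} {q L : ℕ}
variable (hS : Setting t K s a ε M q L)
include hS

omit [Finite G] in
theorem Setting.one_lt : 1 < q ∧ 1 < L := by
  have := hS.four_le
  rcases hS.cases with h | h <;> omega

theorem Setting.odd_of_dvd {r n : ℕ} (hr : r = q ∨ r = L) (hn : n ∣ r) : Odd n := by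
  have h : Nat.Coprime 2 r := by
    rcases hr with rfl | rfl
    exacts [hS.coprime_k_q.coprime_mul_right, hS.coprime_k_L.coprime_mul_right]
  exact Nat.coprime_two_left.mp (h.coprime_dvd_right hn)

theorem Setting.not_inK {r : ℕ} (hr : r = q ∨ r = L) {g : G} (hg : g ≠ 1) (hgr : orderOf g ∣ r) :
    ¬ InK K g := by
  rintro ⟨y, hy, -, hc⟩
  obtain ⟨c, rfl⟩ := isConj_iff.mp hc
  rw [orderOf_conj_eq] at hgr
  have h2 : Nat.Coprime (2 * Nat.card K) r := by
    rcases hr with rfl | rfl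
    exacts [hS.coprime_k_q, hS.coprime_k_L]
  have h3 := Nat.eq_one_of_dvd_coprimes h2 (((Subgroup.orderOf_dvd_natCard _ hy)).trans (dvd_mul_left _ 2)) hgr
  exact hg (by rw [orderOf_eq_one_iff.mp h3]; group)

theorem Setting.kind_q {g : G} (hg : g ≠ 1) (hgq : orderOf g ∣ q) :
    (a : G → ℂ) g = 0 ∧ (M = 2 → numPairs g = q) ∧ (M = -2 → numPairs g = 0) := by
  rcases hS.kind g hg (hS.not_inK (.inl rfl) hg hgq) with h | h
  · exact h.2
  · exact absurd (orderOf_eq_one_iff.mp (Nat.eq_one_of_dvd_coprimes hS.coprime_q_L hgq h.1)) hg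

theorem Setting.kind_L {g : G} (hg : g ≠ 1) (hgL : orderOf g ∣ L) :
    (ε : ℂ) * (a : G → ℂ) g = -1 ∧ numPairs g = L := by
  rcases hS.kind g hg (hS.not_inK (.inr rfl) hg hgL) with h | h
  · exact absurd (orderOf_eq_one_iff.mp (Nat.eq_one_of_dvd_coprimes hS.coprime_q_L h.1 hgL)) hg
  · exact h.2

/-- Commuting elements are of the same kind. -/
theorem Setting.dvd_of_comm {r : ℕ} (hr : r = q ∨ r = L) {g x : G} (hg : g ≠ 1)
    (hgr : orderOf g ∣ r) (hc : x * g = g * x) : orderOf x ∣ r := by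
  by_cases hx : x = 1
  · simp [hx]
  have hgK := hS.not_inK hr hg hgr
  have hxK : ¬ InK K x := fun h => hgK (hS.data.inK_of_comm hg h hc.symm)
  by_contra hno
  have hxr' : ∃ r', (r' = q ∨ r' = L) ∧ orderOf x ∣ r' ∧ Nat.Coprime r r' := by
    rcases hS.kind x hx hxK with h | h <;> rcases hr with rfl | rfl
    · exact absurd h.1 hno
    · exact ⟨q, .inl rfl, h.1, hS.coprime_q_L.symm⟩
    · exact ⟨L, .inr rfl, h.1, hS.coprime_q_L⟩
    · exact absurd h.1 hno
  obtain ⟨r', -, hxr', hcop⟩ := hxr'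
  have hord : orderOf (x * g) = orderOf x * orderOf g :=
    (show Commute x g from hc).orderOf_mul_eq_mul_orderOf_of_coprime
      ((hcop.symm.coprime_dvd_left hxr').coprime_dvd_right hgr)
  have hxg : x * g ≠ 1 := fun e => hx (orderOf_eq_one_iff.mp (by
    rw [e, orderOf_one] at hord; exact Nat.eq_one_of_mul_eq_one_right hord.symm))
  have hxgK : ¬ InK K (x * g) := fun h => hgK (hS.data.inK_of_comm hg h (by
    rw [← mul_assoc, ← hc]))
  rcases hS.kind _ hxg hxgK with h | h <;> rw [hord] at h <;> rcases hr with rfl | rfl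
  · exact hno ((dvd_mul_right _ _).trans h.1)
  · exact hg (orderOf_eq_one_iff.mp
      (Nat.eq_one_of_dvd_coprimes hS.coprime_q_L ((dvd_mul_left _ _).trans h.1) hgr))
  · exact hg (orderOf_eq_one_iff.mp
      (Nat.eq_one_of_dvd_coprimes hS.coprime_q_L hgr ((dvd_mul_left _ _).trans h.1)))
  · exact hno ((dvd_mul_right _ _).trans h.1)

theorem Setting.card_centralizer_dvd {r : ℕ} (hr : r = q ∨ r = L) {g : G} (hg : g ≠ 1)
    (hgr : orderOf g ∣ r) : Nat.card (Subgroup.centralizer ({g} : Set G)) ∣ r := by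
  have hpr : ∀ n : ℕ, Nat.Coprime r n →
      Nat.Coprime (Nat.card (Subgroup.centralizer ({g} : Set G))) n := by
    intro n hn
    refine Nat.coprime_of_dvd fun p hp h1 h2 => ?_
    haveI := Fact.mk hp
    obtain ⟨x, hx⟩ := exists_prime_orderOf_dvd_card' (G := Subgroup.centralizer ({g} : Set G)) p h1
    have h3 := hS.dvd_of_comm hr hg hgr (Subgroup.mem_centralizer_singleton_iff.mp x.2)
    rw [Subgroup.orderOf_coe, hx] at h3
    exact hp.one_lt.ne' (Nat.eq_one_of_dvd_coprimes hn h3 h2)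
  have h := Subgroup.card_subgroup_dvd_card (Subgroup.centralizer ({g} : Set G))
  rw [hS.card] at h
  rcases hr with rfl | rfl
  · exact (hpr _ hS.coprime_k_q.symm).dvd_of_dvd_mul_left
      ((hpr _ hS.coprime_q_L).dvd_of_dvd_mul_right h)
  · exact (hpr _ (Nat.Coprime.mul_right hS.coprime_k_L.symm hS.coprime_q_L.symm)).dvd_of_dvd_mul_left h

/-- The kinds whose centralisers are inverted. -/
theorem Setting.inverted {r : ℕ} (hr : r = L ∨ (r = q ∧ M = 2)) {g : G} (hg : g ≠ 1)
    (hgr : orderOf g ∣ r) :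
    Nat.card (Subgroup.centralizer ({g} : Set G)) = r ∧
      (∀ x ∈ Subgroup.centralizer ({g} : Set G), ∀ y ∈ Subgroup.centralizer ({g} : Set G),
        x * y = y * x) ∧
      (∃ u : G, orderOf u = 2 ∧ orderOf (u * g) = 2) ∧
      ∀ u : G, orderOf u = 2 → orderOf (u * g) = 2 →
        ∀ c ∈ Subgroup.centralizer ({g} : Set G), u * c * u⁻¹ = c⁻¹ := by
  obtain ⟨hq1, hL1⟩ := hS.one_lt
  have hN : numPairs g = r := by
    rcases hr with rfl | ⟨rfl, hM⟩
    · exact (hS.kind_L hg hgr).2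
    · exact (hS.kind_q hg hgr).2.1 hM
  have hr' : r = q ∨ r = L := hr.symm.imp And.left id
  have hpos : 0 < numPairs g := by rw [hN]; rcases hr' with rfl | rfl <;> omega
  obtain ⟨h1, h2, h3⟩ := inverted_of_pairs hpos (by rw [hN]; exact hS.card_centralizer_dvd hr' hg hgr)
  refine ⟨h1.trans hN, h2, ?_, h3⟩
  obtain ⟨u⟩ := (Nat.card_pos_iff.mp hpos).1
  exact ⟨u.1, u.2⟩

/-- Centraliser of a non-identity element of such a centraliser. -/
theorem Setting.centralizer_eq_of_mem {r : ℕ} (hr : r = L ∨ (r = q ∧ M = 2)) {g x : G}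
    (hg : g ≠ 1) (hgr : orderOf g ∣ r) (hx : x ∈ Subgroup.centralizer ({g} : Set G)) (hx1 : x ≠ 1) :
    orderOf x ∣ r ∧ Subgroup.centralizer ({x} : Set G) = Subgroup.centralizer ({g} : Set G) := by
  obtain ⟨h1, h2, -⟩ := hS.inverted hr hg hgr
  have hxr : orderOf x ∣ r := h1 ▸ Subgroup.orderOf_dvd_natCard _ hx
  refine ⟨hxr, (Subgroup.eq_of_le_of_card_ge (fun y hy => ?_) ?_).symm⟩
  · exact Subgroup.mem_centralizer_singleton_iff.mpr (h2 y hy x hx)
  · rw [h1, (hS.inverted hr hx1 hxr).1]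

theorem Setting.factorization_eq {r p : ℕ} (hr : r = q ∨ r = L) (hp : p.Prime) (hpr : p ∣ r) :
    (Nat.card G).factorization p = r.factorization p := by
  obtain ⟨hq, hL⟩ := hS.one_lt
  have hk := hS.four_le
  have h1 : 2 * Nat.card K ≠ 0 := by omega
  rw [hS.card, Nat.factorization_mul (mul_ne_zero h1 (by omega)) (by omega),
    Nat.factorization_mul h1 (by omega)]
  simp only [Finsupp.coe_add, Pi.add_apply]
  rcases hr with rfl | rfl
  · rw [factorization_eq_zero_of_coprime hp hS.coprime_k_q.symm hpr,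
      factorization_eq_zero_of_coprime hp hS.coprime_q_L hpr, zero_add, add_zero]
  · rw [factorization_eq_zero_of_coprime hp hS.coprime_k_L.symm hpr,
      factorization_eq_zero_of_coprime hp hS.coprime_q_L.symm hpr, zero_add, zero_add]

/-- All these centralisers are conjugate. -/
theorem Setting.exists_conj {r : ℕ} (hr : r = L ∨ (r = q ∧ M = 2)) {g g' : G}
    (hg : g ≠ 1) (hgr : orderOf g ∣ r) (hg' : g' ≠ 1) (hgr' : orderOf g' ∣ r) :
    ∃ c : G, c * g' * c⁻¹ ∈ Subgroup.centralizer ({g} : Set G) := by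
  obtain ⟨hq1, hL1⟩ := hS.one_lt
  have hr' : r = q ∨ r = L := hr.symm.imp And.left id
  obtain ⟨p, hp, hpr⟩ := Nat.exists_prime_and_dvd (n := r) (by rcases hr' with rfl | rfl <;> omega)
  haveI := Fact.mk hp
  have main : ∀ h : G, h ≠ 1 → orderOf h ∣ r → ∃ T : Sylow p G,
      (T : Subgroup G) ≤ Subgroup.centralizer ({h} : Set G) := by
    intro h hh hhr
    let P₀ : Sylow p (Subgroup.centralizer ({h} : Set G)) := default
    have hc : Nat.card ((P₀ : Subgroup _).map (Subgroup.centralizer ({h} : Set G)).subtype) =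
        p ^ (Nat.card G).factorization p := by
      rw [Subgroup.card_map_of_injective (Subgroup.subtype_injective _), P₀.card_eq_multiplicity,
        (hS.inverted hr hh hhr).1, hS.factorization_eq hr' hp hpr]
    exact ⟨Sylow.ofCard _ hc, by rw [Sylow.coe_ofCard]; exact Subgroup.map_subtype_le _⟩
  obtain ⟨T, hT⟩ := main g hg hgr
  obtain ⟨T', hT'⟩ := main g' hg' hgr'
  obtain ⟨c, hc⟩ := MulAction.exists_smul_eq G T' T
  obtain ⟨x, hxT, hx1⟩ : ∃ x ∈ (T' : Subgroup G), x ≠ 1 := by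
    have h1 : p ∣ Nat.card (T' : Subgroup G) := by
      refine T'.dvd_card_of_dvd_card ?_
      rw [hS.card]
      rcases hr' with rfl | rfl
      exacts [(hpr.mul_left _).mul_right _, hpr.mul_left _]
    obtain ⟨x, hx⟩ := exists_prime_orderOf_dvd_card' (G := (T' : Subgroup G)) p h1
    exact ⟨x, x.2, fun e => hp.one_lt.ne' (by rw [← hx, ← Subgroup.orderOf_coe, e, orderOf_one])⟩
  have hcx : c * x * c⁻¹ ∈ (T : Subgroup G) := by
    rw [← hc]; exact Subgroup.mem_map.mpr ⟨x, hxT, rfl⟩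
  have hcx1 : c * x * c⁻¹ ≠ 1 := fun e => hx1 (conj_eq_one_iff.mp e)
  refine ⟨c, ?_⟩
  rw [← (hS.centralizer_eq_of_mem hr hg hgr (hT hcx) hcx1).2, Subgroup.mem_centralizer_singleton_iff]
  have h := Subgroup.mem_centralizer_singleton_iff.mp (hT' hxT)
  calc c * g' * c⁻¹ * (c * x * c⁻¹) = c * (g' * x) * c⁻¹ := by group
    _ = c * (x * g') * c⁻¹ := by rw [h]
    _ = c * x * c⁻¹ * (c * g' * c⁻¹) := by group

/-- The elements of one kind, counted. -/
theorem Setting.card_kind {r : ℕ} (hr : r = L ∨ (r = q ∧ M = 2)) {g : G}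
    (hg : g ≠ 1) (hgr : orderOf g ∣ r) :
    Nat.card {x : G // x ≠ 1 ∧ orderOf x ∣ r} =
      (Subgroup.normalizer (Subgroup.centralizer ({g} : Set G) : Set G)).index * (r - 1) := by
  set C := Subgroup.centralizer ({g} : Set G) with hC
  rw [← (hS.inverted hr hg hgr).1, ← card_conj_set C (Subgroup.normalizer (C : Set G))
    (fun n hn x hx => (Subgroup.mem_normalizer_iff.mp hn x).mp hx)]
  · refine Nat.card_congr (Equiv.subtypeEquivRight fun x => ⟨fun ⟨h1, h2⟩ => ?_, ?_⟩)
    · obtain ⟨c, hc⟩ := hS.exists_conj hr hg hgr h1 (by rwa [(hS.inverted hr hg hgr).1] at h2)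
      exact ⟨_, hc, fun e => h1 (conj_eq_one_iff.mp e), isConj_iff.mpr ⟨c⁻¹, by group⟩⟩
    · rintro ⟨y, hy, hy1, hc⟩
      obtain ⟨c, rfl⟩ := isConj_iff.mp hc
      exact ⟨fun e => hy1 (conj_eq_one_iff.mp e),
        by rw [orderOf_conj_eq]; exact Subgroup.orderOf_dvd_natCard _ hy⟩
  · intro c x hx hx1 hcx
    have h1 := (hS.centralizer_eq_of_mem hr hg hgr hx hx1).2
    have h2 := (hS.centralizer_eq_of_mem hr hg hgr hcx (fun e => hx1 (conj_eq_one_iff.mp e))).2
    refine Subgroup.mem_normalizer_iff.mpr fun y => ?_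
    conv_lhs => rw [hC, ← h1]
    conv_rhs => rw [hC, ← h2]
    rw [Subgroup.mem_centralizer_singleton_iff, Subgroup.mem_centralizer_singleton_iff]
    constructor <;> intro h
    · calc c * y * c⁻¹ * (c * x * c⁻¹) = c * (y * x) * c⁻¹ := by group
        _ = c * (x * y) * c⁻¹ := by rw [h]
        _ = c * x * c⁻¹ * (c * y * c⁻¹) := by group
    · calc y * x = c⁻¹ * (c * y * c⁻¹ * (c * x * c⁻¹)) * c := by group
        _ = x * y := by rw [h]; group

/-- Numbers of elements of the two kinds. -/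
theorem Setting.card_kinds :
    ((Nat.card {x : G // x ≠ 1 ∧ orderOf x ∣ L} : ℕ) : ℤ) =
        1 + M * Nat.card K + q * L * (Nat.card K - 1) ∧
      Nat.card {x : G // x ≠ 1 ∧ orderOf x ∣ q} + 1 = q * q := by
  classical
  letI := Fintype.ofFinite G
  have hD := hS.data
  have hk := hS.four_le
  obtain ⟨hq1, hL1⟩ := hS.one_lt
  -- the conjugates of `K`
  have hK : Nat.card {x : G // InK K x} = q * L * (Nat.card K - 1) := by
    have hidx : (Subgroup.centralizer ({t} : Set G)).index = q * L := by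
      have h := Subgroup.card_mul_index (Subgroup.centralizer ({t} : Set G))
      rw [hD.card_C, hS.card, mul_assoc (2 * Nat.card K) q L] at h
      exact Nat.eq_of_mul_eq_mul_left (by omega) h
    rw [← hidx]
    exact card_conj_set K _ (fun n hn x hx => hD.conj_mem_subgroup
      (Subgroup.mem_centralizer_singleton_iff.mp hn) le_rfl hx) (fun c x hx hx1 h =>
        Subgroup.mem_centralizer_singleton_iff.mpr (hD.comm_of_conj_mem hx hx1 h))
  have h0 : ∑ g : G, (a : G → ℂ) g = 0 := by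
    have h := classInner_of_ne hS.a_ne
    simp only [classInner, oneChar_apply, map_one, mul_one, mul_eq_zero] at h
    exact h.resolve_left (inv_ne_zero natCard_ne_zero)
  have hd : (ε : ℂ) * (a : G → ℂ) 1 = 1 + M * Nat.card K := by
    rw [← coe_charDegree]
    have := congrArg (fun z : ℤ => (z : ℂ)) hS.deg_a
    push_cast at this
    exact this
  have hε : (ε : ℂ) * ε = 1 := by rcases hS.sign with h | h <;> simp [h]
  have hv : ∀ g : G, (ε : ℂ) * (a : G → ℂ) g =
      (if g = 1 then 1 + (M : ℂ) * Nat.card K else 0) + (if InK K g then 1 else 0) -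
        (if g ≠ 1 ∧ orderOf g ∣ L then 1 else 0) := by
    intro g
    by_cases hg : g = 1
    · subst hg
      rw [hd, if_pos rfl, if_neg (fun h => ?_), if_neg (fun h => h.1 rfl)]
      · ring
      · obtain ⟨y, -, hy1, hc⟩ := h
        exact hy1 (isConj_one_left.mp hc)
    rw [if_neg hg]
    by_cases hgK : InK K g
    · rw [if_pos hgK, if_neg (fun h => hS.not_inK (.inr rfl) hg h.2 hgK)]
      obtain ⟨y, hy, hy1, hc⟩ := hgK
      rw [← eq_of_isConj (isClassFunction_coe a) hc, hS.value y hy hy1, hε]; ring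
    rw [if_neg hgK]
    rcases hS.kind g hg hgK with h | h
    · rw [h.2.1, if_neg (fun e => hg (orderOf_eq_one_iff.mp
        (Nat.eq_one_of_dvd_coprimes hS.coprime_q_L h.1 e.2)))]; ring
    · rw [h.2.1, if_pos ⟨hg, h.1⟩]; ring
  have hL : ((Nat.card {x : G // x ≠ 1 ∧ orderOf x ∣ L} : ℕ) : ℤ) =
      1 + M * Nat.card K + q * L * (Nat.card K - 1) := by
    have h : (0 : ℂ) = 1 + M * Nat.card K + Nat.card {x : G // InK K x} -
        Nat.card {x : G // x ≠ 1 ∧ orderOf x ∣ L} := by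
      have h1 : ∑ g : G, (ε : ℂ) * (a : G → ℂ) g = 0 := by rw [← Finset.mul_sum, h0, mul_zero]
      rw [← h1, Finset.sum_congr rfl fun g _ => hv g, Finset.sum_sub_distrib,
        Finset.sum_add_distrib, Finset.sum_ite_eq', if_pos (Finset.mem_univ _), Finset.sum_boole,
        Finset.sum_boole, Nat.card_eq_fintype_card (α := {x : G // InK K x}),
        Nat.card_eq_fintype_card (α := {x : G // x ≠ 1 ∧ orderOf x ∣ L}), Fintype.card_subtype,
        Fintype.card_subtype]
    rw [hK] at h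
    have h2 : (((Nat.card {x : G // x ≠ 1 ∧ orderOf x ∣ L} : ℕ) : ℤ) : ℂ) =
        ((1 + M * Nat.card K + q * L * (Nat.card K - 1) : ℤ) : ℂ) := by
      rw [Nat.cast_mul, Nat.cast_mul, Nat.cast_sub (by omega : 1 ≤ Nat.card K)] at h
      push_cast at h ⊢
      linear_combination h
    exact_mod_cast h2
  refine ⟨hL, ?_⟩
  -- the partition of `G`
  have hpart : Nat.card G = 1 + Nat.card {x : G // InK K x} +
      Nat.card {x : G // x ≠ 1 ∧ orderOf x ∣ q} + Nat.card {x : G // x ≠ 1 ∧ orderOf x ∣ L} := by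
    have e : ∀ g : G, (1 : ℕ) = (if g = 1 then 1 else 0) + (if InK K g then 1 else 0) +
        (if g ≠ 1 ∧ orderOf g ∣ q then 1 else 0) + (if g ≠ 1 ∧ orderOf g ∣ L then 1 else 0) := by
      intro g
      by_cases hg : g = 1
      · subst hg
        rw [if_pos rfl, if_neg, if_neg (fun h => h.1 rfl), if_neg (fun h => h.1 rfl)]
        rintro ⟨y, -, hy1, hc⟩
        exact hy1 (isConj_one_left.mp hc)
      rw [if_neg hg]
      by_cases hgK : InK K g
      · rw [if_pos hgK, if_neg (fun h => hS.not_inK (.inl rfl) hg h.2 hgK),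
          if_neg (fun h => hS.not_inK (.inr rfl) hg h.2 hgK)]
      rw [if_neg hgK]
      rcases hS.kind g hg hgK with h | h
      · rw [if_pos ⟨hg, h.1⟩, if_neg (fun e => hg (orderOf_eq_one_iff.mp
          (Nat.eq_one_of_dvd_coprimes hS.coprime_q_L h.1 e.2)))]
      · rw [if_neg (fun e : g ≠ 1 ∧ orderOf g ∣ q => hg (orderOf_eq_one_iff.mp
          (Nat.eq_one_of_dvd_coprimes hS.coprime_q_L e.2 h.1))), if_pos ⟨hg, h.1⟩]
    rw [Nat.card_eq_fintype_card (α := G), ← Finset.card_univ, Finset.card_eq_sum_ones,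
      Finset.sum_congr rfl fun g _ => e g]
    simp only [Finset.sum_add_distrib, Finset.sum_boole, Nat.card_eq_fintype_card,
      Fintype.card_subtype, Nat.cast_id]
    have h1 : (Finset.univ.filter fun x : G => x = 1).card = 1 :=
      Finset.card_eq_one.mpr ⟨1, by ext x; simp⟩
    rw [h1]
  have hcast : (Nat.card G : ℤ) = ((2 * Nat.card K * q * L : ℕ) : ℤ) := by rw [hS.card]
  rw [hpart, hK] at hcast
  push_cast [Nat.cast_sub (by omega : 1 ≤ Nat.card K)] at hcast
  rw [hL] at hcast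
  have h2 : ((Nat.card {x : G // x ≠ 1 ∧ orderOf x ∣ q} + 1 : ℕ) : ℤ) = ((q * q : ℕ) : ℤ) := by
    push_cast
    rcases hS.cases with ⟨rfl, hq, hL'⟩ | ⟨rfl, hq, hL'⟩
    · subst hq hL'; push_cast at hcast ⊢; linear_combination hcast
    · have hq' : (q : ℤ) = 2 * Nat.card K - 1 := by omega
      have hL'' : (L : ℤ) = Nat.card K - 1 := by omega
      rw [hq', hL''] at hcast
      rw [hq']
      linear_combination hcast
  exact_mod_cast h2

end CfsgLib.BrauerSuzukiWall
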