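import Cfsg.Agent.BrauerSuzukiWall.Exceptional
import Cfsg.Agent.Chars.Brauer.Defect
import Mathlib

/-!
The three kinds of non-identity elements in the Brauer–Suzuki–Wall configuration, their
centralisers and their numbers.
-/

set_option autoImplicit false

namespace CfsgLib.BrauerSuzukiWall

open Cfsg CfsgLib.Chars

variable {G : Type*} [Group G]

/-- `g` is conjugate to a non-identity element of `K`. -/
def InK (K : Subgroup G) (g : G) : Prop := ∃ y ∈ K, y ≠ 1 ∧ IsConj y g

/-- The number of involutions `u` with `u g` an involution. -/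
noncomputable def numPairs (g : G) : ℕ :=
  Nat.card {u : G // orderOf u = 2 ∧ orderOf (u * g) = 2}

/-- The numerical data and the trichotomy. -/
structure Setting (t : G) (K : Subgroup G) (s : G) (a : IrrCharacter G) (ε M : ℤ) (q L : ℕ) :
    Prop where
  data : Data t K s
  four_le : 4 ≤ Nat.card K
  sign : ε = 1 ∨ ε = -1
  a_ne : a ≠ oneChar G
  cases : (M = 2 ∧ q = 2 * Nat.card K + 1 ∧ L = Nat.card K + 1) ∨
    (M = -2 ∧ q + 1 = 2 * Nat.card K ∧ L + 1 = Nat.card K)
  card : Nat.card G = 2 * Nat.card K * q * L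
  deg_a : ε * (charDegree (a : G → ℂ) : ℤ) = 1 + M * Nat.card K
  coprime_k_q : Nat.Coprime (2 * Nat.card K) q
  coprime_k_L : Nat.Coprime (2 * Nat.card K) L
  coprime_q_L : Nat.Coprime q L
  value : ∀ y ∈ K, y ≠ 1 → (a : G → ℂ) y = ε
  kind : ∀ g, g ≠ 1 → ¬ InK K g →
    (orderOf g ∣ q ∧ (a : G → ℂ) g = 0 ∧ (M = 2 → numPairs g = q) ∧ (M = -2 → numPairs g = 0)) ∨
      (orderOf g ∣ L ∧ (ε : ℂ) * (a : G → ℂ) g = -1 ∧ numPairs g = L)

variable {t : G} {K : Subgroup G} {s : G}

theorem conj_pow_eq (c x : G) (i : ℕ) : (c * x * c⁻¹) ^ i = c * x ^ i * c⁻¹ := by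
  simpa using (map_pow (MulAut.conj c).toMonoidHom x i).symm

theorem orderOf_conj_eq (c x : G) : orderOf (c * x * c⁻¹) = orderOf x :=
  orderOf_injective (MulAut.conj c).toMonoidHom (MulAut.conj c).injective x

theorem Data.inK_of_two (hD : Data t K s) {g : G} (hg : orderOf g = 2) : InK K g :=
  ⟨t, hD.t_mem, hD.t_ne, hD.conj g hg⟩

/-- An element commuting with a conjugate of a non-identity element of `K` is conjugate into `K`. -/
theorem Data.inK_of_comm (hD : Data t K s) {g h : G} (hg : g ≠ 1) (hh : InK K h)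
    (hc : g * h = h * g) : InK K g := by
  obtain ⟨y, hy, hy1, hyh⟩ := hh
  obtain ⟨c, hc'⟩ := isConj_iff.mp hyh
  have hg' : c⁻¹ * g * c * y = y * (c⁻¹ * g * c) := by
    rw [← hc'] at hc
    calc c⁻¹ * g * c * y = c⁻¹ * (g * (c * y * c⁻¹)) * c := by group
      _ = c⁻¹ * (c * y * c⁻¹ * g) * c := by rw [hc]
      _ = y * (c⁻¹ * g * c) := by group
  have hg1 : c⁻¹ * g * c ≠ 1 := fun e => hg (by
    calc g = c * (c⁻¹ * g * c) * c⁻¹ := by group
      _ = 1 := by rw [e]; group)
  have hconj : IsConj (c⁻¹ * g * c) g := isConj_iff.mpr ⟨c, by group⟩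
  by_cases hyt : y = t
  · rcases hD.list (c⁻¹ * g * c) (hyt ▸ hg') with h' | h'
    · exact ⟨_, h', hg1, hconj⟩
    · have h2 : orderOf (c⁻¹ * g * c) = 2 := by
        have := hD.orderOf_smul h'
        rwa [← mul_assoc, hD.s_sq, one_mul] at this
      exact ⟨t, hD.t_mem, hD.t_ne, (hD.conj _ h2).trans hconj⟩
  · exact ⟨_, hD.mem_of_comm hy hy1 hyt hg', hg1, hconj⟩

variable [Finite G]

theorem factorization_eq_zero_of_coprime {m n p : ℕ} (hp : p.Prime) (h : Nat.Coprime m n)
    (hm : p ∣ m) : n.factorization p = 0 :=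
  Nat.factorization_eq_zero_of_not_dvd fun hn =>
    hp.one_lt.ne' (Nat.eq_one_of_dvd_coprimes h hm hn)

/-- Counting the conjugates of a trivial intersection set. -/
theorem card_conj_set (X N : Subgroup G) (hN : ∀ g ∈ N, ∀ x ∈ X, g * x * g⁻¹ ∈ X)
    (hTI : ∀ g : G, ∀ x ∈ X, x ≠ 1 → g * x * g⁻¹ ∈ X → g ∈ N) :
    Nat.card {g : G // ∃ x ∈ X, x ≠ 1 ∧ IsConj x g} = N.index * (Nat.card X - 1) := by
  classical
  have hcard : Nat.card {x : X // x ≠ 1} = Nat.card X - 1 := by
    letI := Fintype.ofFinite X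
    rw [Nat.card_eq_fintype_card, Nat.card_eq_fintype_card, Fintype.card_subtype_compl,
      Fintype.card_subtype_eq]
  rw [← hcard, Subgroup.index, ← Nat.card_prod]
  refine (Nat.card_eq_of_bijective (fun p : (G ⧸ N) × {x : X // x ≠ 1} =>
    (⟨p.1.out * (p.2.1 : G) * p.1.out⁻¹, p.2.1, p.2.1.2, fun e => p.2.2 (Subtype.ext e),
      isConj_iff.mpr ⟨p.1.out, rfl⟩⟩ : {g : G // ∃ x ∈ X, x ≠ 1 ∧ IsConj x g})) ⟨?_, ?_⟩).symm
  · rintro ⟨c, x, hx⟩ ⟨c', x', hx'⟩ he
    have he' : c.out * (x : G) * c.out⁻¹ = c'.out * (x' : G) * c'.out⁻¹ := congrArg Subtype.val he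
    have h1 : c'.out⁻¹ * c.out * (x : G) * (c'.out⁻¹ * c.out)⁻¹ = (x' : G) := by
      calc _ = c'.out⁻¹ * (c.out * (x : G) * c.out⁻¹) * c'.out := by group
        _ = (x' : G) := by rw [he']; group
    have h2 := hTI _ x x.2 (fun e => hx (Subtype.ext e)) (by rw [h1]; exact x'.2)
    have h3 : c = c' := by
      rw [← QuotientGroup.out_eq' c, ← QuotientGroup.out_eq' c']
      exact (QuotientGroup.eq.mpr h2).symm
    subst h3
    have h4 : (x : G) = x' := mul_left_cancel (mul_right_cancel he')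
    exact Prod.ext rfl (Subtype.ext (Subtype.ext h4))
  · rintro ⟨g, x, hx, hx1, hc⟩
    obtain ⟨c, rfl⟩ := isConj_iff.mp hc
    set o := (QuotientGroup.mk c : G ⧸ N).out with ho
    have hn : o⁻¹ * c ∈ N := QuotientGroup.eq.mp (QuotientGroup.out_eq' _)
    refine ⟨⟨QuotientGroup.mk c, ⟨o⁻¹ * c * x * (o⁻¹ * c)⁻¹, hN _ hn x hx⟩, fun e => hx1 ?_⟩, ?_⟩
    · exact conj_eq_one_iff.mp (congrArg Subtype.val e)
    · refine Subtype.ext ?_
      show o * (o⁻¹ * c * x * (o⁻¹ * c)⁻¹) * o⁻¹ = c * x * c⁻¹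
      group

theorem Data.inK_of_prime (hD : Data t K s) {p : ℕ} (hp : p.Prime) (hpk : p ∣ 2 * Nat.card K)
    (hK : p ≠ 2 → (Nat.card G).factorization p = (Nat.card K).factorization p)
    {g : G} (hg : orderOf g = p) : InK K g := by
  by_cases h2 : p = 2
  · exact hD.inK_of_two (hg.trans h2)
  haveI := Fact.mk hp
  let P₀ : Sylow p K := default
  have hc : Nat.card ((P₀ : Subgroup K).map K.subtype) = p ^ (Nat.card G).factorization p := by
    rw [Subgroup.card_map_of_injective K.subtype_injective, P₀.card_eq_multiplicity, hK h2]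
  obtain ⟨T, hT⟩ := (IsPGroup.of_card (n := 1) (by rw [Nat.card_zpowers, hg, pow_one]) :
    IsPGroup p (Subgroup.zpowers g)).exists_le_sylow
  obtain ⟨c, hc'⟩ := MulAction.exists_smul_eq G T (Sylow.ofCard _ hc)
  have hmem : c * g * c⁻¹ ∈ (Sylow.ofCard _ hc : Subgroup G) := by
    rw [← hc']
    exact Subgroup.mem_map.mpr ⟨g, hT (Subgroup.mem_zpowers g), rfl⟩
  rw [Sylow.coe_ofCard] at hmem
  exact ⟨_, Subgroup.map_subtype_le _ hmem, fun e => hp.one_lt.ne' (by
    rw [← hg, conj_eq_one_iff.mp e, orderOf_one]), isConj_iff.mpr ⟨c⁻¹, by group⟩⟩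

/-- The setting holds whenever `|K| ≥ 4`. -/
theorem Data.exists_setting (hD : Data t K s) (hk : 4 ≤ Nat.card K) :
    ∃ (a : IrrCharacter G) (ε M : ℤ) (q L : ℕ), Setting t K s a ε M q L := by
  classical
  letI := Fintype.ofFinite G
  obtain ⟨a, A, B, ε, εA, εB, M, hT⟩ := hD.exists_table hk
  set k := Nat.card K with hkdef
  obtain ⟨q, L, hcases, hqz, hLz⟩ : ∃ q L : ℕ,
      ((M = 2 ∧ q = 2 * k + 1 ∧ L = k + 1) ∨ (M = -2 ∧ q + 1 = 2 * k ∧ L + 1 = k)) ∧
      ((q : ℤ) = 1 + M * k ∨ (q : ℤ) = -(1 + M * k)) ∧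
      (2 * (L : ℤ) = 2 + M * k ∨ 2 * (L : ℤ) = -(2 + M * k)) := by
    rcases hT.two_M with rfl | rfl
    · exact ⟨2 * k + 1, k + 1, .inl ⟨rfl, rfl, rfl⟩, .inl (by push_cast; ring),
        .inl (by push_cast; ring)⟩
    · refine ⟨2 * k - 1, k - 1, .inr ⟨rfl, by omega, by omega⟩, .inr ?_, .inr ?_⟩
      · rw [Nat.cast_sub (by omega)]; push_cast; ring
      · rw [Nat.cast_sub (by omega)]; push_cast; ring
  have hcard : Nat.card G = 2 * k * q * L := by
    have h := hT.card
    rcases hcases with ⟨rfl, hq, hL⟩ | ⟨rfl, hq, hL⟩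
    · subst hq hL
      have h' : (Nat.card G : ℤ) = ((2 * k * (2 * k + 1) * (k + 1) : ℕ) : ℤ) := by
        rw [h]; push_cast; ring
      exact_mod_cast h'
    · have hq' : (q : ℤ) = 2 * k - 1 := by omega
      have hL' : (L : ℤ) = k - 1 := by omega
      have h' : (Nat.card G : ℤ) = ((2 * k * q * L : ℕ) : ℤ) := by
        rw [h]; push_cast; rw [hq', hL']; ring
      exact_mod_cast h'
  obtain ⟨m, hm⟩ := hD.even_card

  have hqk : Nat.Coprime (2 * k) q := by
    refine Nat.coprime_of_dvd' fun p hp h1 h2 => ?_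
    rcases hcases with ⟨-, hq, -⟩ | ⟨-, hq, -⟩
    · exact (Nat.dvd_add_right h1).mp (hq ▸ h2)
    · exact (Nat.dvd_add_right h2).mp (hq ▸ h1)
  have hLk : Nat.Coprime (2 * k) L := by
    refine Nat.Coprime.mul_left ?_ ?_
    · refine (Nat.prime_two.coprime_iff_not_dvd).mpr fun h => ?_
      rcases hcases with ⟨-, -, hL⟩ | ⟨-, -, hL⟩ <;> omega
    · refine Nat.coprime_of_dvd' fun p hp h1 h2 => ?_
      rcases hcases with ⟨-, -, hL⟩ | ⟨-, -, hL⟩
      · exact (Nat.dvd_add_right h1).mp (hL ▸ h2)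
      · exact (Nat.dvd_add_right h2).mp (hL ▸ h1)
  have hqL : Nat.Coprime q L := by
    refine Nat.coprime_of_dvd' fun p hp h1 h2 => ?_
    rcases hcases with ⟨-, hq, hL⟩ | ⟨-, hq, hL⟩
    · have h3 : q + 1 = 2 * L := by omega
      exact (Nat.dvd_add_right h1).mp (h3 ▸ h2.mul_left 2)
    · have h3 : q = 2 * L + 1 := by omega
      exact (Nat.dvd_add_right (h2.mul_left 2)).mp (h3 ▸ h1)
  have hε1 : ε.natAbs = 1 := by rcases hT.sign with h | h <;> simp [h]
  have hA1 : εA.natAbs = 1 := by rcases hT.sign_A with h | h <;> simp [h]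
  have hB1 : εB.natAbs = 1 := by rcases hT.sign_B with h | h <;> simp [h]
  have hdega : charDegree (a : G → ℂ) = q := by
    have h := congrArg Int.natAbs hT.deg_a
    rw [Int.natAbs_mul, hε1, one_mul, Int.natAbs_natCast] at h
    rcases hqz with e | e
    · rw [← e, Int.natAbs_natCast] at h; exact h
    · rw [← Int.natAbs_neg, ← e, Int.natAbs_natCast] at h; exact h
  have hdegA : charDegree (A : G → ℂ) = L := by
    have h := congrArg Int.natAbs hT.two_A
    rw [Int.natAbs_mul, Int.natAbs_mul, hA1, one_mul, Int.natAbs_natCast] at h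
    rcases hLz with e | e
    · rw [← e, Int.natAbs_neg, Int.natAbs_mul, Int.natAbs_natCast] at h
      exact Nat.eq_of_mul_eq_mul_left (by norm_num) h
    · rw [← e, Int.natAbs_mul, Int.natAbs_natCast] at h
      exact Nat.eq_of_mul_eq_mul_left (by norm_num) h
  have hdegB : charDegree (B : G → ℂ) = L := by
    have h := congrArg Int.natAbs hT.deg_AB
    rwa [Int.natAbs_mul, Int.natAbs_mul, hA1, hB1, one_mul, one_mul, Int.natAbs_natCast,
      Int.natAbs_natCast, hdegA, eq_comm] at h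
  have hvanish : ∀ (χ : IrrCharacter G) (d : ℕ), charDegree (χ : G → ℂ) = d →
      (∀ p : ℕ, p.Prime → p ∣ d → (Nat.card G).factorization p = d.factorization p) →
      ∀ (g : G) (p : ℕ), p.Prime → p ∣ d → p ∣ orderOf g → (χ : G → ℂ) g = 0 := by
    intro χ d hd hf g p hp hpd hpg
    refine CfsgLib.Chars.Brauer.eq_zero_of_defect_zero hp χ
      (Nat.ordProj_mul_ordCompl_eq_self (Nat.card G) p).symm
      (Nat.not_dvd_ordCompl hp Nat.card_pos.ne') ?_ hpg
    rw [hd, hf p hp hpd]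
    exact Nat.ordProj_dvd d p
  have hq0 : q ≠ 0 := by rcases hcases with h | h <;> omega
  have hL0 : L ≠ 0 := by rcases hcases with h | h <;> omega
  have hk0 : 2 * k ≠ 0 := by omega
  have hfac : ∀ p, (Nat.card G).factorization p =
      (2 * k).factorization p + q.factorization p + L.factorization p := fun p => by
    rw [hcard, Nat.factorization_mul (mul_ne_zero hk0 hq0) hL0, Nat.factorization_mul hk0 hq0]
    simp
  have hfq : ∀ p : ℕ, p.Prime → p ∣ q → (Nat.card G).factorization p = q.factorization p := by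
    intro p hp hpq
    rw [hfac, factorization_eq_zero_of_coprime hp hqk.symm hpq,
      factorization_eq_zero_of_coprime hp hqL hpq, zero_add, add_zero]
  have hfL : ∀ p : ℕ, p.Prime → p ∣ L → (Nat.card G).factorization p = L.factorization p := by
    intro p hp hpL
    rw [hfac, factorization_eq_zero_of_coprime hp hLk.symm hpL,
      factorization_eq_zero_of_coprime hp hqL.symm hpL, zero_add, zero_add]
  refine ⟨a, ε, M, q, L, hD, hk, hT.sign, hT.a_ne, hcases, hcard, hT.deg_a, hqk, hLk, hqL,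
    hT.value, fun g hg1 hg => ?_⟩
  obtain ⟨hrel, hN⟩ := hT.away g fun y hy hy1 hc => hg ⟨y, hy, hy1, hc⟩
  have hnk : Nat.Coprime (orderOf g) (2 * k) := by
    refine Nat.coprime_of_dvd fun p hp h1 h2 => hg ?_
    refine hD.inK_of_comm hg1 (hD.inK_of_prime (g := g ^ (orderOf g / p)) hp h2 ?_ ?_) ?_
    · intro hp2
      rw [hfac, factorization_eq_zero_of_coprime hp hqk h2,
        factorization_eq_zero_of_coprime hp hLk h2, add_zero, add_zero,
        Nat.factorization_mul (by norm_num) (by omega)]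
      rw [Finsupp.add_apply, Nat.factorization_eq_zero_of_not_dvd fun h =>
        hp2 ((Nat.prime_dvd_prime_iff_eq hp Nat.prime_two).mp h), zero_add]
    · rw [orderOf_pow_of_dvd (Nat.div_pos (Nat.le_of_dvd (orderOf_pos g) h1) hp.pos).ne'
        (Nat.div_dvd_of_dvd h1), Nat.div_div_self h1 (orderOf_pos g).ne']
    · exact (Commute.refl g).pow_right _
  have hdvd : orderOf g ∣ q * L := by
    have h := orderOf_dvd_natCard g
    rw [hcard, mul_assoc] at h
    exact hnk.dvd_of_dvd_mul_left h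
  have hk0' : (k : ℂ) ≠ 0 := Nat.cast_ne_zero.mpr (by omega)
  have hGc : (Nat.card G : ℂ) = (k : ℂ) * (M * k + 1) * (M * k + 2) := by
    have := congrArg (fun z : ℤ => (z : ℂ)) hT.card
    push_cast at this
    exact this
  have hD1 : (1 : ℂ) + M * k ≠ 0 := by
    intro h
    have : ((1 + M * k : ℤ) : ℂ) = 0 := by push_cast; exact h
    have h2 : (1 : ℤ) + M * k = 0 := by exact_mod_cast this
    rcases hqz with e | e <;> omega
  have hD2 : (2 : ℂ) + M * k ≠ 0 := by
    intro h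
    have : ((2 + M * k : ℤ) : ℂ) = 0 := by push_cast; exact h
    have h2 : (2 : ℤ) + M * k = 0 := by exact_mod_cast this
    rcases hLz with e | e <;> omega
  rw [hGc] at hN
  change 4 * (k : ℂ) ^ 2 * (numPairs g : ℂ) * _ * _ = _ at hN
  by_cases hL : Nat.Coprime (orderOf g) L
  · refine .inl ?_
    have hgq := hL.dvd_of_dvd_mul_right hdvd
    obtain ⟨p, hp, hpg⟩ := Nat.exists_prime_and_dvd (fun h => hg1 (orderOf_eq_one_iff.mp h))
    have ha : (a : G → ℂ) g = 0 := hvanish a q hdega hfq g p hp (hpg.trans hgq) hpg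
    refine ⟨hgq, ha, fun hM => ?_, fun hM => ?_⟩
    all_goals
      rw [ha] at hN
      have h4 : (((4 * numPairs g : ℕ) : ℤ) : ℂ) = (((1 + M * k) * (M + 2) : ℤ) : ℂ) := by
        push_cast
        refine mul_left_cancel₀ (mul_ne_zero (mul_ne_zero (pow_ne_zero 2 hk0') hD1) hD2) ?_
        linear_combination hN
      have h5 : ((4 * numPairs g : ℕ) : ℤ) = (1 + M * k) * (M + 2) := by exact_mod_cast h4
      rw [hM] at h5 hqz
      rcases hcases with h | h <;> omega
  · refine .inr ?_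
    obtain ⟨p, hp, hpg, hpL⟩ := Nat.Prime.not_coprime_iff_dvd.mp hL
    have hA := hvanish A L hdegA hfL g p hp hpL hpg
    have hB := hvanish B L hdegB hfL g p hp hpL hpg
    have ha : (ε : ℂ) * (a : G → ℂ) g = -1 := by
      rw [hA, hB] at hrel
      linear_combination hrel
    refine ⟨?_, ha, ?_⟩
    · refine Nat.Coprime.dvd_of_dvd_mul_left (k := orderOf g) (m := q) ?_ hdvd
      refine Nat.coprime_of_dvd fun r hr h1 h2 => ?_
      rw [hvanish a q hdega hfq g r hr h2 h1, mul_zero] at ha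
      norm_num at ha
    · rw [ha] at hN
      have h4 : (((4 * numPairs g : ℕ) : ℤ) : ℂ) = ((M * (2 + M * k) : ℤ) : ℂ) := by
        push_cast
        refine mul_left_cancel₀ (mul_ne_zero (mul_ne_zero (pow_ne_zero 2 hk0') hD1) hD2) ?_
        linear_combination hN
      have h5 : ((4 * numPairs g : ℕ) : ℤ) = M * (2 + M * k) := by exact_mod_cast h4
      rcases hcases with ⟨hM, -, -⟩ | ⟨hM, -, -⟩ <;> rw [hM] at h5 hLz <;> omega

end CfsgLib.BrauerSuzukiWall
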