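import Cfsg.Agent.BrauerSuzukiWall.Setup
import Cfsg.Agent.CentralizerFour.Characters
import Cfsg.Agent.Chars.Basic
import Cfsg.Agent.Chars.Basic.ClassSum
import Cfsg.Agent.Chars.Basic.Galois
import Cfsg.Agent.Chars.Basic.Linear
import Mathlib

/-!
The integers `c φ χ = (χ|K, 1) - (χ|K, φ)` for the centraliser configuration, and their sums
against the columns of the character table.
-/

set_option autoImplicit false

namespace CfsgLib.BrauerSuzukiWall

open Cfsg CfsgLib.Chars
open CfsgLib.CentralizerFour (card_conjugators_eq sum_irr_mul_conj_eq_card)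
open scoped ComplexConjugate

variable {G : Type*} [Group G] [Finite G] {t : G} {K : Subgroup G} {s : G}

/-- The coefficient of an irreducible character of `K` in a restriction. -/
noncomputable def mult (K : Subgroup G) (χ : IrrCharacter G) (φ : IrrCharacter K) : ℕ :=
  letI := Fintype.ofFinite K
  (exists_nat_classInner (isCharacter_restrict (isCharacter_coe χ) K) φ).choose

theorem mult_spec [Fintype K] (χ : IrrCharacter G) (φ : IrrCharacter K) :
    (mult K χ φ : ℂ) = classInner (fun y : K => (χ : G → ℂ) y) (φ : K → ℂ) := by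
  unfold mult
  convert ((exists_nat_classInner (isCharacter_restrict (isCharacter_coe χ) K) φ).choose_spec).symm

/-- The coefficient of `χ` in the generalised character induced from `1 - φ`. -/
noncomputable def coef (K : Subgroup G) (φ : IrrCharacter K) (χ : IrrCharacter G) : ℤ :=
  (mult K χ (oneChar K) : ℤ) - mult K χ φ

omit [Finite G] in
theorem sum_char_eq {H : Type*} [Group H] [Fintype H] (φ : IrrCharacter H) [Decidable (φ = oneChar H)] :
    ∑ y : H, (φ : H → ℂ) y = if φ = oneChar H then (Nat.card H : ℂ) else 0 := by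
  have h := classInner_irr φ (oneChar H)
  simp only [classInner, oneChar_apply, map_one, mul_one] at h
  split_ifs with he
  · rw [if_pos he, inv_mul_eq_one₀ natCard_ne_zero] at h
    exact h.symm
  · rw [if_neg he, mul_eq_zero] at h
    exact h.resolve_left (inv_ne_zero natCard_ne_zero)

theorem coef_eq [Fintype K] (φ : IrrCharacter K) (χ : IrrCharacter G) :
    (coef K φ χ : ℂ) =
      (Nat.card K : ℂ)⁻¹ * ∑ y : K, (1 - conj ((φ : K → ℂ) y)) * (χ : G → ℂ) y := by
  simp only [coef, Int.cast_sub, Int.cast_natCast, mult_spec, classInner, oneChar_apply, map_one,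
    mul_one]
  rw [← mul_sub, ← Finset.sum_sub_distrib]
  exact congrArg _ (Finset.sum_congr rfl fun y _ => by ring)

theorem coef_one (χ : IrrCharacter G) : coef K (oneChar K) χ = 0 := sub_self _

theorem coef_oneChar {φ : IrrCharacter K} (hφ : φ ≠ oneChar K) :
    coef K φ (oneChar G) = 1 := by
  classical
  letI := Fintype.ofFinite K
  have h := coef_eq φ (oneChar G)
  simp only [oneChar_apply, mul_one, Finset.sum_sub_distrib, Finset.sum_const, Finset.card_univ,
    nsmul_eq_mul, ← map_sum, sum_char_eq, if_neg hφ, map_zero, sub_zero, ← Nat.card_eq_fintype_card,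
    inv_mul_cancel₀ (natCard_ne_zero (G := K))] at h
  exact_mod_cast h

variable (hD : Data t K s)
include hD

theorem Data.card_C' {x : G} (hx : orderOf x = 2) :
    Nat.card {g : G // g * t * g⁻¹ = x} = 2 * Nat.card K := by
  rw [card_conjugators_eq (hD.conj x hx), hD.card_C]

theorem Data.char_one (φ : IrrCharacter K) : (φ : K → ℂ) 1 = 1 := by
  haveI : IsMulCommutative K := ⟨⟨fun a b => Subtype.ext (hD.comm a a.2 b b.2)⟩⟩
  exact map_one_eq_one_of_isMulCommutative φ

theorem Data.char_t (φ : IrrCharacter K) :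
    (φ : K → ℂ) ⟨t, hD.t_mem⟩ = 1 ∨ (φ : K → ℂ) ⟨t, hD.t_mem⟩ = -1 := by
  obtain ⟨l, hl⟩ := exists_linChar_eq φ (hD.char_one φ)
  have h : ((l ⟨t, hD.t_mem⟩ : ℂˣ) : ℂ) * (l ⟨t, hD.t_mem⟩ : ℂˣ) = 1 := by
    rw [← Units.val_mul, ← map_mul,
      show (⟨t, hD.t_mem⟩ : K) * ⟨t, hD.t_mem⟩ = 1 from Subtype.ext hD.t_sq, map_one, Units.val_one]
  rw [← hl, linChar_apply]
  exact mul_self_eq_one_iff.mp h

/-- The value of a character of `K` at `t`, as an integer. -/
noncomputable def Data.sgn (φ : IrrCharacter K) : ℤ :=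
  letI := Classical.propDecidable ((φ : K → ℂ) ⟨t, hD.t_mem⟩ = 1)
  if (φ : K → ℂ) ⟨t, hD.t_mem⟩ = 1 then 1 else -1

theorem Data.sgn_cast (φ : IrrCharacter K) :
    (hD.sgn φ : ℂ) = (φ : K → ℂ) ⟨t, hD.t_mem⟩ := by
  unfold Data.sgn
  split_ifs with h
  · simp [h]
  · simp [(hD.char_t φ).resolve_left h]

theorem Data.sgn_cases (φ : IrrCharacter K) : hD.sgn φ = 1 ∨ hD.sgn φ = -1 := by
  unfold Data.sgn
  split_ifs
  exacts [.inl rfl, .inr rfl]

theorem Data.sum_dual {y : K} (hy : y ≠ 1) : ∑ φ : IrrCharacter K, (φ : K → ℂ) y = 0 := by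
  classical
  have h := sum_irr_map_one_mul y
  rw [if_neg hy] at h
  simpa [hD.char_one] using h

theorem Data.sum_sgn : ∑ φ : IrrCharacter K, hD.sgn φ = 0 := by
  have h := hD.sum_dual (y := ⟨t, hD.t_mem⟩) (fun h => hD.t_ne (congrArg Subtype.val h))
  simp only [← hD.sgn_cast, ← Int.cast_sum, Int.cast_eq_zero] at h
  exact h

theorem Data.card_dual : Fintype.card (IrrCharacter K) = Nat.card K := by
  classical
  have h := sum_irr_map_one_mul (1 : K)
  simp only [hD.char_one, mul_one, Finset.sum_const, Finset.card_univ, nsmul_eq_mul,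
    if_pos] at h
  exact_mod_cast h

/-- Restrictions to `K`, at non-identity elements. -/
theorem Data.value {y : K} (hy : y ≠ 1) (χ : IrrCharacter G) :
    (χ : G → ℂ) y = -∑ φ : IrrCharacter K, (coef K φ χ : ℂ) * (φ : K → ℂ) y := by
  classical
  letI := Fintype.ofFinite K
  have h := eq_sum_classInner_mul
    (isClassFunction_of_isCharacter (isCharacter_restrict (isCharacter_coe χ) K)) y
  rw [h]
  simp only [coef, Int.cast_sub, Int.cast_natCast, sub_mul, Finset.sum_sub_distrib,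
    ← Finset.mul_sum, hD.sum_dual hy, mul_zero, zero_sub, neg_neg, mult_spec]

theorem Data.value_t (χ : IrrCharacter G) :
    (χ : G → ℂ) t = ((-∑ φ : IrrCharacter K, coef K φ χ * hD.sgn φ : ℤ) : ℂ) := by
  have h := hD.value (y := ⟨t, hD.t_mem⟩) (fun h => hD.t_ne (congrArg Subtype.val h)) χ
  rw [h]
  simp [hD.sgn_cast]

/-- The degree, in terms of the coefficients. -/
theorem Data.degree_eq (χ : IrrCharacter G) :
    (charDegree (χ : G → ℂ) : ℤ) =
      Nat.card K * mult K χ (oneChar K) - ∑ φ : IrrCharacter K, coef K φ χ := by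
  classical
  letI := Fintype.ofFinite K
  have h := eq_sum_classInner_mul
    (isClassFunction_of_isCharacter (isCharacter_restrict (isCharacter_coe χ) K)) 1
  simp only [OneMemClass.coe_one, hD.char_one, mul_one, ← mult_spec] at h
  have h' : ((charDegree (χ : G → ℂ) : ℤ) : ℂ) = ((∑ φ, (mult K χ φ : ℤ) : ℤ) : ℂ) := by
    rw [Int.cast_natCast, coe_charDegree, h]
    push_cast
    rfl
  rw [Int.cast_injective h']
  simp [coef, Finset.sum_sub_distrib, hD.card_dual]

/-- The Gram matrix. -/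
theorem Data.gram {φ ψ : IrrCharacter K} (hφ : φ ≠ oneChar K) (hψ : ψ ≠ oneChar K)
    [DecidableEq (IrrCharacter K)] :
    ∑ χ : IrrCharacter G, coef K φ χ * coef K ψ χ =
      2 + (if ψ = φ then 1 else 0) + (if conjChar ψ = φ then 1 else 0) := by
  classical
  letI := Fintype.ofFinite K
  have hk : (Nat.card K : ℂ) ≠ 0 := natCard_ne_zero
  have hψ' : conjChar ψ ≠ oneChar K := fun h => hψ (by
    rw [← conjChar_conjChar ψ, h]
    exact Subtype.ext (funext fun g => by simp))
  have e1 : ∀ χ : IrrCharacter G, ((coef K φ χ : ℂ) * (coef K ψ χ : ℂ)) =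
      (Nat.card K : ℂ)⁻¹ * (Nat.card K : ℂ)⁻¹ * ∑ y : K, ∑ y' : K,
        (1 - conj ((φ : K → ℂ) y)) * (1 - (ψ : K → ℂ) y') *
          ((χ : G → ℂ) y * conj ((χ : G → ℂ) y')) := by
    intro χ
    rw [← map_intCast (starRingEnd ℂ) (coef K ψ χ), coef_eq, coef_eq, map_mul, map_inv₀,
      Complex.conj_natCast, map_sum, mul_mul_mul_comm, Finset.sum_mul_sum]
    refine congrArg _ (Finset.sum_congr rfl fun y _ => Finset.sum_congr rfl fun y' _ => ?_)
    rw [map_mul, map_sub, map_one, Complex.conj_conj]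
    ring
  have e2 : ∀ y : K, ∑ y' : K, (1 - conj ((φ : K → ℂ) y)) * (1 - (ψ : K → ℂ) y') *
      (Nat.card {x : G // x * (y : G) * x⁻¹ = (y' : G)} : ℂ) =
      (Nat.card K : ℂ) * ((1 - conj ((φ : K → ℂ) y)) *
        (2 - (ψ : K → ℂ) y - (conjChar ψ : K → ℂ) y)) := by
    intro y
    by_cases hy : y = 1
    · subst hy
      simp [hD.char_one]
    have hy1 : (y : G) ≠ 1 := fun h => hy (Subtype.ext h)
    rw [conjChar_apply, ← map_inv_eq_conj (isCharacter_coe ψ)]
    simp only [hD.card_conjugators y.2 hy1 (Subtype.coe_prop _), Nat.cast_add, Nat.cast_ite,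
      Nat.cast_zero, ← Subgroup.coe_inv, Subtype.coe_inj, mul_add, mul_ite, mul_zero,
      Finset.sum_add_distrib, Finset.sum_ite_eq', Finset.mem_univ, if_true]
    ring
  have h : ((∑ χ : IrrCharacter G, coef K φ χ * coef K ψ χ : ℤ) : ℂ) =
      ((2 + (if ψ = φ then 1 else 0) + (if conjChar ψ = φ then 1 else 0) : ℤ) : ℂ) := by
    push_cast
    rw [Finset.sum_congr rfl fun χ _ => e1 χ, ← Finset.mul_sum, Finset.sum_comm,
      Finset.sum_congr rfl fun y _ => Finset.sum_comm]
    simp only [← Finset.mul_sum, sum_irr_mul_conj_eq_card, e2]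
    have hA := classInner_irr ψ φ
    have hB := classInner_irr (conjChar ψ) φ
    simp only [classInner] at hA hB
    have e3 : ∀ y : K, (1 - conj ((φ : K → ℂ) y)) *
        (2 - (ψ : K → ℂ) y - (conjChar ψ : K → ℂ) y) = (2 - 2 * conj ((φ : K → ℂ) y))
          - (ψ : K → ℂ) y - (conjChar ψ : K → ℂ) y + (ψ : K → ℂ) y * conj ((φ : K → ℂ) y)
          + (conjChar ψ : K → ℂ) y * conj ((φ : K → ℂ) y) := fun y => by ring
    simp only [e3, Finset.sum_add_distrib, Finset.sum_sub_distrib, ← Finset.mul_sum, ← map_sum,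
      sum_char_eq, if_neg hφ, if_neg hψ, if_neg hψ', Finset.sum_const, Finset.card_univ,
      nsmul_eq_mul, ← Nat.card_eq_fintype_card, map_zero, mul_zero, sub_zero]
    rw [inv_mul_eq_iff_eq_mul₀ hk] at hA hB
    rw [hA, hB]
    field_simp
    congr!
  exact_mod_cast h

/-- Coefficients against a column. -/
theorem Data.column [Fintype K] (φ : IrrCharacter K) (g : G) :
    ∑ χ : IrrCharacter G, (coef K φ χ : ℂ) * conj ((χ : G → ℂ) g) =
      (Nat.card K : ℂ)⁻¹ * ∑ y : K, (1 - conj ((φ : K → ℂ) y)) *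
        (Nat.card {x : G // x * (y : G) * x⁻¹ = g} : ℂ) := by
  simp only [coef_eq, Finset.mul_sum, Finset.sum_mul]
  rw [Finset.sum_comm]
  refine Finset.sum_congr rfl fun y _ => ?_
  rw [← sum_irr_mul_conj_eq_card, Finset.mul_sum, Finset.mul_sum]
  exact Finset.sum_congr rfl fun χ _ => by ring

theorem Data.column_away (φ : IrrCharacter K) {g : G}
    (hg : ∀ y ∈ K, y ≠ 1 → ¬ IsConj y g) :
    ∑ χ : IrrCharacter G, (coef K φ χ : ℂ) * conj ((χ : G → ℂ) g) = 0 := by
  letI := Fintype.ofFinite K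
  rw [hD.column, Finset.sum_eq_zero, mul_zero]
  intro y _
  by_cases hy : y = 1
  · subst hy; simp [hD.char_one]
  haveI : IsEmpty {x : G // x * (y : G) * x⁻¹ = g} :=
    ⟨fun x => hg y y.2 (fun h => hy (Subtype.ext h)) (isConj_iff.mpr ⟨x.1, x.2⟩)⟩
  simp

theorem Data.degree_sum (φ : IrrCharacter K) :
    ∑ χ : IrrCharacter G, coef K φ χ * (charDegree (χ : G → ℂ) : ℤ) = 0 := by
  have h := hD.column_away φ (g := 1) (fun y _ hy hc => hy (isConj_one_left.mp hc))
  simp only [← coe_charDegree, Complex.conj_natCast] at h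
  exact_mod_cast h

/-- The number of factorisations of `g` into two involutions, by characters. -/
theorem Data.class_mult (g : G) :
    (Nat.card G : ℂ) * ∑ χ : IrrCharacter G,
        (χ : G → ℂ) t * (χ : G → ℂ) t / (χ : G → ℂ) 1 * conj ((χ : G → ℂ) g) =
      4 * (Nat.card K : ℂ) ^ 2 *
        (Nat.card {u : G // orderOf u = 2 ∧ orderOf (u * g) = 2} : ℂ) := by
  classical
  letI := Fintype.ofFinite G
  have h1 : (Nat.card G : ℂ) * ∑ χ : IrrCharacter G,
      (χ : G → ℂ) t * (χ : G → ℂ) t / (χ : G → ℂ) 1 * conj ((χ : G → ℂ) g) =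
      ((∑ a : G, Nat.card {x : G // x * (t * (a * t * a⁻¹)) * x⁻¹ = g} : ℕ) : ℂ) := by
    push_cast
    simp only [← sum_irr_mul_conj_eq_card, Finset.mul_sum]
    rw [Finset.sum_comm]
    refine Finset.sum_congr rfl fun χ _ => ?_
    rw [← Finset.sum_mul, sum_map_mul_conjugate]
    ring
  have hconj : ∀ x : G, orderOf (x * t * x⁻¹) = 2 := fun x => by
    rw [← hD.t_ord]
    exact (orderOf_injective (MulAut.conj x).toMonoidHom (MulAut.conj x).injective t)
  have key : ∀ x a : G, x * (t * (a * t * a⁻¹)) * x⁻¹ = g →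
      x * a * t * (x * a)⁻¹ = x * t * x⁻¹ * g := fun x a h => by
    rw [← h]
    calc x * a * t * (x * a)⁻¹ = x * (t * t) * (a * t * a⁻¹) * x⁻¹ := by rw [hD.t_sq]; group
      _ = x * t * x⁻¹ * (x * (t * (a * t * a⁻¹)) * x⁻¹) := by group
  let N := {u : G // orderOf u = 2 ∧ orderOf (u * g) = 2}
  let e : (Σ a : G, {x : G // x * (t * (a * t * a⁻¹)) * x⁻¹ = g}) ≃
      Σ u : N, {x : G // x * t * x⁻¹ = u.1} × {z : G // z * t * z⁻¹ = u.1 * g} :=
    { toFun := fun p => ⟨⟨p.2.1 * t * p.2.1⁻¹, hconj _, by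
        rw [← key p.2.1 p.1 p.2.2]; exact hconj _⟩, ⟨p.2.1, rfl⟩, ⟨p.2.1 * p.1, key _ _ p.2.2⟩⟩
      invFun := fun q => ⟨q.2.1.1⁻¹ * q.2.2.1, q.2.1.1, by
        obtain ⟨u, ⟨x, hx⟩, ⟨z, hz⟩⟩ := q
        have hu2 : u.1⁻¹ = u.1 :=
          inv_eq_of_mul_eq_one_right (orderOf_eq_two_iff'.mp u.2.1).1
        calc x * (t * (x⁻¹ * z * t * (x⁻¹ * z)⁻¹)) * x⁻¹
            = x * t * x⁻¹ * (z * t * z⁻¹) := by group
          _ = u.1⁻¹ * (u.1 * g) := by rw [hx, hz, hu2]
          _ = g := inv_mul_cancel_left _ _⟩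
      left_inv := fun p => by
        obtain ⟨a, x, hx⟩ := p
        exact Sigma.subtype_ext (inv_mul_cancel_left x a) rfl
      right_inv := fun q => by
        obtain ⟨⟨u, hu⟩, ⟨x, hx⟩, ⟨z, hz⟩⟩ := q
        dsimp only at hx hz
        subst hx
        simp only [mul_inv_cancel_left] }
  rw [h1, ← Nat.card_sigma, Nat.card_congr e, Nat.card_sigma]
  simp only [Nat.card_prod]
  rw [Finset.sum_congr rfl (g := fun _ : N => 2 * Nat.card K * (2 * Nat.card K)) fun u _ => by
    rw [hD.card_C' u.2.1, hD.card_C' u.2.2], Finset.sum_const, Finset.card_univ,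
    ← Nat.card_eq_fintype_card, smul_eq_mul]
  push_cast
  ring

/-- The basic equation for each non-trivial character of `K`. -/
theorem Data.equation {φ : IrrCharacter K} (hφ : φ ≠ oneChar K) :
    (Nat.card G : ℂ) * ∑ χ : IrrCharacter G,
        (coef K φ χ : ℂ) * ((χ : G → ℂ) t * (χ : G → ℂ) t / (χ : G → ℂ) 1) =
      4 * (Nat.card K : ℂ) ^ 3 := by
  classical
  letI := Fintype.ofFinite K
  have hk : (Nat.card K : ℂ) ≠ 0 := natCard_ne_zero
  simp only [coef_eq, Finset.mul_sum, Finset.sum_mul]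
  rw [Finset.sum_comm]
  have e : ∀ y : K, ∑ χ : IrrCharacter G, (Nat.card G : ℂ) * ((Nat.card K : ℂ)⁻¹ *
      ((1 - conj ((φ : K → ℂ) y)) * (χ : G → ℂ) y) *
        ((χ : G → ℂ) t * (χ : G → ℂ) t / (χ : G → ℂ) 1)) =
      4 * (Nat.card K : ℂ) ^ 2 * (1 - conj ((φ : K → ℂ) y)) := by
    intro y
    by_cases hy : y = 1
    · subst hy; simp [hD.char_one]
    have h := hD.class_mult ((y : G))⁻¹
    rw [hD.card_pairs (K.inv_mem y.2) (fun h => hy (Subtype.ext (inv_eq_one.mp h)))] at h
    simp only [map_inv_eq_conj (isCharacter_coe _), Complex.conj_conj, Finset.mul_sum] at h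
    rw [Finset.sum_congr rfl (g := fun χ : IrrCharacter G =>
      (Nat.card K : ℂ)⁻¹ * (1 - conj ((φ : K → ℂ) y)) * ((Nat.card G : ℂ) *
        ((χ : G → ℂ) t * (χ : G → ℂ) t / (χ : G → ℂ) 1 * (χ : G → ℂ) y)))
      (fun χ _ => by ring), ← Finset.mul_sum, h]
    field_simp
  rw [Finset.sum_congr rfl fun y _ => e y, ← Finset.mul_sum, Finset.sum_sub_distrib,
    ← map_sum, sum_char_eq, if_neg hφ, map_zero, sub_zero, Finset.sum_const, Finset.card_univ,
    nsmul_eq_mul, mul_one, ← Nat.card_eq_fintype_card]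
  ring

/-- The trivial character is a constituent of `χ` on `C(t)` with integral multiplicity. -/
theorem Data.parity (χ : IrrCharacter G) :
    2 ∣ (mult K χ (oneChar K) : ℤ) - ∑ φ : IrrCharacter K, coef K φ χ * hD.sgn φ := by
  classical
  letI := Fintype.ofFinite K
  letI := Fintype.ofFinite (Subgroup.centralizer ({t} : Set G))
  obtain ⟨N, hN⟩ := exists_nat_classInner
    (isCharacter_restrict (isCharacter_coe χ) (Subgroup.centralizer ({t} : Set G))) (oneChar _)
  simp only [classInner, oneChar_apply, map_one, mul_one] at hN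
  rw [← Equiv.sum_comp (Equiv.ofBijective hD.toC hD.toC_bijective), Fintype.sum_sum_type,
    hD.card_C] at hN
  have hs : ∀ a : K, (χ : G → ℂ) (s * a) = (χ : G → ℂ) t := fun a =>
    (eq_of_isConj (isClassFunction_coe χ) (hD.conj _ (hD.orderOf_smul a.2))).symm
  simp only [Equiv.ofBijective_apply, Data.toC, Sum.elim_inl, Sum.elim_inr, hs, Finset.sum_const,
    Finset.card_univ, nsmul_eq_mul, ← Nat.card_eq_fintype_card] at hN
  have h1 := mult_spec (K := K) χ (oneChar K)
  simp only [classInner, oneChar_apply, map_one, mul_one] at h1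
  rw [eq_inv_mul_iff_mul_eq₀ natCard_ne_zero] at h1
  rw [← h1, hD.value_t] at hN
  push_cast at hN
  have hk : (Nat.card K : ℂ) ≠ 0 := natCard_ne_zero
  refine ⟨N, ?_⟩
  have : (((mult K χ (oneChar K) : ℤ) - ∑ φ : IrrCharacter K, coef K φ χ * hD.sgn φ : ℤ) : ℂ) =
      ((2 * N : ℤ) : ℂ) := by
    push_cast
    field_simp at hN
    linear_combination hN
  exact_mod_cast this

end CfsgLib.BrauerSuzukiWall
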