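import Cfsg.Agent.BrauerSuzukiWall.Coefficients
import Cfsg.Agent.BrauerSuzukiWall.Arith
import Cfsg.Agent.Chars.Basic.Galois
import Mathlib

/-!
The exceptional characters of the Brauer–Suzuki–Wall configuration, and the group order.
-/

set_option autoImplicit false

namespace CfsgLib.BrauerSuzukiWall

open Cfsg CfsgLib.Chars
open CfsgLib.CentralizerFour (sum_irr_mul_conj_eq_card)
open scoped ComplexConjugate

variable {G : Type*} [Group G] [Finite G] {t : G} {K : Subgroup G} {s : G}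

/-- The part of the character table that is used afterwards. -/
structure Table (t : G) (K : Subgroup G) (a A B : IrrCharacter G) (ε εA εB M : ℤ) : Prop where
  sign : ε = 1 ∨ ε = -1
  sign_A : εA = 1 ∨ εA = -1
  sign_B : εB = 1 ∨ εB = -1
  a_ne : a ≠ oneChar G
  two_M : M = 2 ∨ M = -2
  deg_a : ε * (charDegree (a : G → ℂ) : ℤ) = 1 + M * Nat.card K
  deg_AB : εA * (charDegree (A : G → ℂ) : ℤ) = εB * (charDegree (B : G → ℂ) : ℤ)
  two_A : 2 * (εA * (charDegree (A : G → ℂ) : ℤ)) = -(2 + M * Nat.card K)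
  card : (Nat.card G : ℤ) = Nat.card K * (M * Nat.card K + 1) * (M * Nat.card K + 2)
  value : ∀ y ∈ K, y ≠ 1 → (a : G → ℂ) y = ε
  away : ∀ g, (∀ y ∈ K, y ≠ 1 → ¬ IsConj y g) →
    1 + (ε : ℂ) * (a : G → ℂ) g + (εA : ℂ) * (A : G → ℂ) g + (εB : ℂ) * (B : G → ℂ) g = 0 ∧
    4 * (Nat.card K : ℂ) ^ 2 * (Nat.card {u : G // orderOf u = 2 ∧ orderOf (u * g) = 2} : ℂ) *
        (1 + M * Nat.card K) * (2 + M * Nat.card K) =
      (Nat.card G : ℂ) * ((1 + M * Nat.card K) * (2 + M * Nat.card K) +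
        ε * (a : G → ℂ) g * (2 + M * Nat.card K) +
        2 * ((Nat.card K : ℂ) - 1) * (1 + ε * (a : G → ℂ) g) * (1 + M * Nat.card K))

variable (hD : Data t K s)
include hD

omit [Finite G] in
theorem Data.t_sub_ne : (⟨t, hD.t_mem⟩ : K) ≠ 1 := fun h => hD.t_ne (congrArg Subtype.val h)

/-- Exactly two characters of `K` are real. -/
theorem Data.exists_real :
    ∃ ξ : IrrCharacter K, ξ ≠ oneChar K ∧ conjChar ξ = ξ ∧
      ∀ φ : IrrCharacter K, conjChar φ = φ → φ = oneChar K ∨ φ = ξ := by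
  classical
  letI := Fintype.ofFinite K
  have hone : conjChar (oneChar K) = oneChar K := Subtype.ext (funext fun g => by simp)
  have hk : (Nat.card K : ℂ) ≠ 0 := natCard_ne_zero
  have h : ((Finset.univ.filter fun φ : IrrCharacter K => conjChar φ = φ).card : ℂ) =
      ((Finset.univ.filter fun y : K => y⁻¹ = y).card : ℂ) := by
    rw [← Finset.sum_boole, ← Finset.sum_boole]
    calc ∑ φ : IrrCharacter K, (if conjChar φ = φ then (1 : ℂ) else 0)
        = ∑ φ : IrrCharacter K, (Nat.card K : ℂ)⁻¹ *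
            ∑ y : K, (φ : K → ℂ) y⁻¹ * conj ((φ : K → ℂ) y) := by
          refine Finset.sum_congr rfl fun φ _ => ?_
          rw [← classInner_irr (conjChar φ) φ]
          simp only [classInner, conjChar_apply, map_inv_eq_conj (isCharacter_coe _)]
      _ = ∑ y : K, (if y⁻¹ = y then (1 : ℂ) else 0) := by
          rw [← Finset.mul_sum, Finset.sum_comm, Finset.mul_sum]
          refine Finset.sum_congr rfl fun y _ => ?_
          rw [sum_irr_mul_conj_eq_card]
          have hc : ∀ x : K, x * y⁻¹ * x⁻¹ = y⁻¹ := fun x => Subtype.ext (by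
            simp only [Subgroup.coe_mul, Subgroup.coe_inv]
            rw [hD.comm x x.2 _ (K.inv_mem y.2), mul_inv_cancel_right])
          simp only [hc]
          split_ifs with he
          · rw [Nat.card_congr (Equiv.subtypeUnivEquiv fun _ => he), inv_mul_cancel₀ hk]
          · haveI := Subtype.isEmpty_of_false (α := K) (fun _ => he)
            simp
  have h2 : (Finset.univ.filter fun y : K => y⁻¹ = y) = {1, ⟨t, hD.t_mem⟩} := by
    ext y
    simp only [Finset.mem_filter, Finset.mem_univ, true_and, Finset.mem_insert,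
      Finset.mem_singleton]
    refine ⟨fun hy => ?_, ?_⟩
    · rcases hD.eq_one_or_t_of_inv y.2 (congrArg Subtype.val hy) with e | e
      exacts [.inl (Subtype.ext e), .inr (Subtype.ext e)]
    · rintro (rfl | rfl)
      exacts [inv_one, Subtype.ext hD.t_inv]
  rw [h2, Finset.card_pair hD.t_sub_ne.symm, Nat.cast_inj] at h
  obtain ⟨x, y, hxy, he⟩ := Finset.card_eq_two.mp h
  have hmem : ∀ φ : IrrCharacter K, conjChar φ = φ ↔ φ = x ∨ φ = y := fun φ => by
    simpa using Finset.ext_iff.mp he φ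
  rcases (hmem _).mp hone with e | e
  · exact ⟨y, fun e' => hxy (e'.trans e).symm, (hmem y).mpr (.inr rfl),
      fun φ hφ => ((hmem φ).mp hφ).imp (fun e' => e'.trans e.symm) id⟩
  · exact ⟨x, fun e' => hxy (e'.trans e), (hmem x).mpr (.inl rfl),
      fun φ hφ => ((hmem φ).mp hφ).symm.imp (fun e' => e'.trans e.symm) id⟩

/-- The exceptional characters. -/
theorem Data.exists_table (hk4 : 4 ≤ Nat.card K) :
    ∃ (a A B : IrrCharacter G) (ε εA εB M : ℤ), Table t K a A B ε εA εB M := by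
  classical
  letI := Fintype.ofFinite K
  obtain ⟨ξ, hξ1, hξc, hξu⟩ := hD.exists_real
  let o := oneChar G
  let u : IrrCharacter K → IrrCharacter G → ℤ := fun φ χ => if χ = o then 0 else coef K φ χ
  let J : Set (IrrCharacter K) := {φ | conjChar φ ≠ φ}
  have hJ1 : ∀ φ ∈ J, φ ≠ oneChar K := fun φ hφ e => hφ (by
    rw [e]; exact Subtype.ext (funext fun g => by simp))
  have hJξ : ∀ φ ∈ J, φ ≠ ξ := fun φ hφ e => hφ (by rw [e]; exact hξc)
  have hcases : ∀ φ : IrrCharacter K, φ = oneChar K ∨ φ = ξ ∨ φ ∈ J := fun φ => by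
    by_cases h : conjChar φ = φ
    · exact (hξu φ h).imp id .inl
    · exact .inr (.inr h)
  -- splitting off the trivial character
  have hsplitZ : ∀ {φ : IrrCharacter K}, φ ≠ oneChar K → ∀ f : IrrCharacter G → ℤ,
      ∑ χ, coef K φ χ * f χ = f o + ∑ χ, u φ χ * f χ := by
    intro φ hφ f
    rw [← Finset.add_sum_erase _ _ (Finset.mem_univ o),
      ← Finset.add_sum_erase (f := fun χ => u φ χ * f χ) _ (Finset.mem_univ o)]
    simp only [u, o, coef_oneChar hφ, one_mul, if_true, zero_mul, zero_add]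
    congr 1
    exact Finset.sum_congr rfl fun χ hχ => by rw [if_neg (Finset.ne_of_mem_erase hχ)]
  have hgram : ∀ {φ ψ : IrrCharacter K}, φ ≠ oneChar K → ψ ≠ oneChar K →
      ∑ χ, u φ χ * u ψ χ =
        1 + (if ψ = φ then 1 else 0) + (if conjChar ψ = φ then 1 else 0) := by
    intro φ ψ hφ hψ
    have h := hD.gram hφ hψ
    rw [hsplitZ hφ (coef K ψ), coef_oneChar hψ] at h
    rw [Finset.sum_congr rfl (g := fun χ => u φ χ * coef K ψ χ) fun χ _ => by
      simp only [u]; split_ifs <;> simp]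
    linarith
  have hdeg : ∀ {φ : IrrCharacter K}, φ ≠ oneChar K →
      ∑ χ, u φ χ * (charDegree (χ : G → ℂ) : ℤ) = -1 := by
    intro φ hφ
    have h := hD.degree_sum φ
    rw [hsplitZ hφ, charDegree_eq_of_map_one (n := 1) (by simp [o])] at h
    push_cast at h
    linarith
  have hu2 : ∀ φ ∈ J, ∑ χ, u φ χ * u φ χ = 2 := fun φ hφ => by
    rw [hgram (hJ1 φ hφ) (hJ1 φ hφ), if_pos rfl, if_neg hφ]; norm_num
  have hr3 : ∑ χ, u ξ χ * u ξ χ = 3 := by
    rw [hgram hξ1 hξ1, if_pos rfl, if_pos hξc]; norm_num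
  have hur : ∀ φ ∈ J, ∑ χ, u φ χ * u ξ χ = 1 := fun φ hφ => by
    rw [hgram (hJ1 φ hφ) hξ1, if_neg (hJξ φ hφ).symm,
      if_neg (by rw [hξc]; exact (hJξ φ hφ).symm)]; norm_num
  have hsame : ∀ φ ∈ J, ∀ ψ ∈ J, (ψ = φ ∨ conjChar ψ = φ) → u ψ = u φ := by
    intro φ hφ ψ hψ h
    have e1 : ∑ χ, u φ χ * u ψ χ = 2 := by
      rw [hgram (hJ1 φ hφ) (hJ1 ψ hψ)]
      rcases h with h | h
      · rw [if_pos h, if_neg (h ▸ hφ)]; norm_num
      · rw [if_pos h, if_neg (fun e => hψ (h.trans e.symm))]; norm_num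
    have h0 : ∑ χ, (u ψ χ - u φ χ) * (u ψ χ - u φ χ) = 0 := by
      simp only [sub_mul, mul_sub, Finset.sum_sub_distrib, hu2 φ hφ, hu2 ψ hψ, e1,
        show ∑ χ, u ψ χ * u φ χ = 2 by rw [← e1]; simp only [mul_comm]]
      norm_num
    funext χ
    have := (Finset.sum_eq_zero_iff_of_nonneg fun i _ => mul_self_nonneg _).mp h0 χ
      (Finset.mem_univ χ)
    exact sub_eq_zero.mp (mul_self_eq_zero.mp this)
  have huu : ∀ φ ∈ J, ∀ ψ ∈ J, u φ ≠ u ψ → ∑ χ, u φ χ * u ψ χ = 1 := by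
    intro φ hφ ψ hψ hne
    rw [hgram (hJ1 φ hφ) (hJ1 ψ hψ), if_neg (fun e => hne (hsame φ hφ ψ hψ (.inl e)).symm),
      if_neg (fun e => hne (hsame φ hφ ψ hψ (.inr e)).symm)]
    norm_num
  have heq_iff : ∀ φ ∈ J, ∀ ψ ∈ J, u ψ = u φ → ψ = φ ∨ conjChar ψ = φ := by
    intro φ hφ ψ hψ e
    by_contra hno
    push Not at hno
    have h := hgram (hJ1 φ hφ) (hJ1 ψ hψ)
    rw [e, hu2 φ hφ, if_neg hno.1, if_neg hno.2] at h
    norm_num at h
  have hconjJ : ∀ φ ∈ J, conjChar φ ∈ J := fun φ hφ => by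
    show conjChar (conjChar φ) ≠ conjChar φ
    rw [conjChar_conjChar]
    exact Ne.symm hφ
  have hsgn_conj : ∀ φ, hD.sgn (conjChar φ) = hD.sgn φ := fun φ => by
    have : ((hD.sgn (conjChar φ) : ℤ) : ℂ) = hD.sgn φ := by
      rw [hD.sgn_cast, conjChar_apply, ← hD.sgn_cast, map_intCast]
    exact_mod_cast this
  have hcu : ∀ φ χ, χ ≠ o → coef K φ χ = u φ χ := fun φ χ hχ => by simp only [u, if_neg hχ]
  have hno : ∀ {φ : IrrCharacter K} {χ : IrrCharacter G}, u φ χ ≠ 0 → χ ≠ o :=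
    fun h e => h (by simp only [u, if_pos e])
  have hne0 : ∀ {x : ℤ}, x = 1 ∨ x = -1 → x ≠ 0 := fun h => by omega
  have hdne : ∀ χ : IrrCharacter G, (χ : G → ℂ) 1 ≠ 0 := map_one_ne_zero
  have hdc : ∀ χ : IrrCharacter G, (χ : G → ℂ) 1 = ((charDegree (χ : G → ℂ) : ℤ) : ℂ) := fun χ => by
    rw [Int.cast_natCast, coe_charDegree]
  -- a nonreal character exists
  obtain ⟨l₀, hl₀⟩ : ∃ φ, φ ∈ J := by
    by_contra hno'
    push Not at hno'
    have : (Finset.univ : Finset (IrrCharacter K)) ⊆ {oneChar K, ξ} := fun φ _ => by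
      rcases hcases φ with e | e | e
      · simp [e]
      · simp [e]
      · exact absurd e (hno' φ)
    have := (Finset.card_le_card this).trans Finset.card_le_two
    rw [Finset.card_univ, hD.card_dual] at this
    omega
  -- the common constituent
  obtain ⟨a, ε, hε, hra, hall⟩ : ∃ a ε, (ε = 1 ∨ ε = -1) ∧ u ξ a = ε ∧ ∀ φ ∈ J, u φ a = ε := by
    rcases Arith.exists_common J (fun χ : IrrCharacter G => (charDegree (χ : G → ℂ) : ℤ)) u (u ξ)
      hu2 hr3 hur huu (fun φ hφ => hdeg (hJ1 φ hφ)) (hdeg hξ1) hl₀ with h | h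
    · exact h
    exfalso
    obtain ⟨l, m, a, b, e, hl, hm, hab, hae, hbe, hb, he, hzl, hzm, hla, hra, hrb, hre, hD', hn⟩ := h
    have hlm : u l ≠ u m := fun h' => hne0 he (h' ▸ hzl e hae.symm hbe.symm)
    have hml : m ≠ l ∧ conjChar m ≠ l := ⟨fun h' => hlm (by rw [h']), fun h' =>
      hlm (hsame m hm l hl (.inr (by rw [← h', conjChar_conjChar])))⟩
    have hmem : ∀ φ : IrrCharacter K,
        φ ∈ ({oneChar K, ξ, l, conjChar l, m, conjChar m} : Finset (IrrCharacter K)) := fun φ => by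
      simp only [Finset.mem_insert, Finset.mem_singleton]
      rcases hcases φ with h' | h' | h'
      · exact .inl h'
      · exact .inr (.inl h')
      · rcases hn φ h' with h'' | h''
        · rcases heq_iff l hl φ h' h'' with e' | e'
          · exact .inr (.inr (.inl e'))
          · exact .inr (.inr (.inr (.inl (by rw [← e', conjChar_conjChar]))))
        · rcases heq_iff m hm φ h' h'' with e' | e'
          · exact .inr (.inr (.inr (.inr (.inl e'))))
          · exact .inr (.inr (.inr (.inr (.inr (by rw [← e', conjChar_conjChar])))))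
    have huniv : (Finset.univ : Finset (IrrCharacter K)) =
        {oneChar K, ξ, l, conjChar l, m, conjChar m} :=
      (Finset.eq_univ_iff_forall.mpr hmem).symm
    have n1 : l ≠ conjChar l := Ne.symm hl
    have n2 : m ≠ conjChar m := Ne.symm hm
    have n3 : l ≠ m := Ne.symm hml.1
    have n4 : l ≠ conjChar m := Ne.symm hml.2
    have n5 : conjChar l ≠ m := fun h' => hml.2 (by rw [← h', conjChar_conjChar])
    have n6 : conjChar l ≠ conjChar m := fun h' => n3 (by
      rw [← conjChar_conjChar l, h', conjChar_conjChar])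
    have n7 : ∀ φ ∈ J, oneChar K ≠ φ ∧ ξ ≠ φ := fun φ hφ => ⟨(hJ1 φ hφ).symm, (hJξ φ hφ).symm⟩
    have hsum : ∀ f : IrrCharacter K → ℤ, ∑ φ, f φ =
        f (oneChar K) + f ξ + f l + f (conjChar l) + f m + f (conjChar m) := by
      intro f
      rw [huniv]
      rw [Finset.sum_insert (by simp [Ne.symm hξ1, n7 l hl, n7 m hm, n7 _ (hconjJ l hl),
          n7 _ (hconjJ m hm)]),
        Finset.sum_insert (by simp [n7 l hl, n7 m hm, n7 _ (hconjJ l hl), n7 _ (hconjJ m hm)]),
        Finset.sum_insert (by simp [n1, n3, n4]), Finset.sum_insert (by simp [n5, n6]),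
        Finset.sum_insert (by simp [n2]), Finset.sum_singleton]
      ring
    have hσ := hD.sum_sgn
    rw [hsum, hsgn_conj, hsgn_conj] at hσ
    have hone : hD.sgn (oneChar K) = 1 := by
      have : ((hD.sgn (oneChar K) : ℤ) : ℂ) = ((1 : ℤ) : ℂ) := by
        rw [hD.sgn_cast]; simp
      exact_mod_cast this
    rw [hone] at hσ
    have hlc := hsame l hl (conjChar l) (hconjJ l hl) (.inr (conjChar_conjChar l))
    have hmc := hsame m hm (conjChar m) (hconjJ m hm) (.inr (conjChar_conjChar m))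
    have ho : ∀ {χ}, (u l χ = 1 ∨ u l χ = -1) ∨ (u m χ = 1 ∨ u m χ = -1) → χ ≠ o := fun h =>
      h.elim (fun h => hno (hne0 h)) (fun h => hno (hne0 h))
    have hbt : (b : G → ℂ) t = ((-(u l b * (hD.sgn ξ + 2 * hD.sgn l)) : ℤ) : ℂ) := by
      rw [hD.value_t]
      simp only [hcu _ _ (ho (.inl hb)), hsum, hlc, hmc, hsgn_conj, hrb, hzm b hab.symm hbe,
        show u (oneChar K) b = 0 from by rw [← hcu _ _ (ho (.inl hb)), coef_one]]
      congr 1; ring
    have het : (e : G → ℂ) t = ((-(u m e * (hD.sgn ξ + 2 * hD.sgn m)) : ℤ) : ℂ) := by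
      rw [hD.value_t]
      simp only [hcu _ _ (ho (.inr he)), hsum, hlc, hmc, hsgn_conj, hre, hzl e hae.symm hbe.symm,
        show u (oneChar K) e = 0 from by rw [← hcu _ _ (ho (.inr he)), coef_one]]
      congr 1; ring
    -- the two equations
    let w : IrrCharacter G → ℂ := fun χ => (χ : G → ℂ) t * (χ : G → ℂ) t / (χ : G → ℂ) 1
    have hval : ∀ {φ : IrrCharacter K}, φ ≠ oneChar K → ∀ {x y : IrrCharacter G}, x ≠ y →
        x ≠ o → y ≠ o → (∀ i, i ≠ x → i ≠ y → u φ i = 0) →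
        ∑ χ, (coef K φ χ : ℂ) * w χ = w o + u φ x * w x + u φ y * w y := by
      intro φ hφ x y hxy hxo hyo hz
      rw [← Finset.sum_subset (Finset.subset_univ {o, x, y}) (fun i _ hi => by
        simp only [Finset.mem_insert, Finset.mem_singleton, not_or] at hi
        rw [hcu _ _ hi.1, hz i hi.2.1 hi.2.2, Int.cast_zero, zero_mul]),
        Finset.sum_insert (by simp [hxo.symm, hyo.symm]), Finset.sum_pair hxy,
        show coef K φ o = 1 from coef_oneChar hφ, hcu _ _ hxo, hcu _ _ hyo, Int.cast_one,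
        one_mul, add_assoc]
    have hao : a ≠ o := fun h' => by
      have h3 := hu2 l hl
      rw [Arith.sum_pair hab hzl, h', show u l o = 0 by simp [u], zero_mul, zero_add] at h3
      rcases hb with h4 | h4 <;> rw [h4] at h3 <;> norm_num at h3
    have hl' := hD.equation (hJ1 l hl)
    have hm' := hD.equation (hJ1 m hm)
    rw [hval (hJ1 l hl) hab hao (ho (.inl hb)) hzl] at hl'
    rw [hval (hJ1 m hm) hae hao (ho (.inr he)) hzm] at hm'
    rw [hla] at hl'
    have hw : (u l b : ℂ) * w b = (u m e : ℂ) * w e := by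
      have := mul_left_cancel₀ (natCard_ne_zero (G := G)) (hl'.trans hm'.symm)
      linear_combination this
    have hDb : (u l b : ℂ) * (b : G → ℂ) 1 = (u m e : ℂ) * (e : G → ℂ) 1 := by
      rw [hdc, hdc, ← Int.cast_mul, ← Int.cast_mul, hD']
    have hsq : ∀ {x : ℤ}, x = 1 ∨ x = -1 → (x : ℂ) * x = 1 := fun h => by
      rcases h with rfl | rfl <;> norm_num
    have hT : (((hD.sgn ξ + 2 * hD.sgn l) * (hD.sgn ξ + 2 * hD.sgn l) : ℤ) : ℂ) =
        (((hD.sgn ξ + 2 * hD.sgn m) * (hD.sgn ξ + 2 * hD.sgn m) : ℤ) : ℂ) := by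
      have aux : ∀ (X : IrrCharacter G) (x P : ℤ), (x = 1 ∨ x = -1) →
          (X : G → ℂ) t = ((-(x * P) : ℤ) : ℂ) →
          (x : ℂ) * w X = ((P * P : ℤ) : ℂ) / ((x : ℂ) * (X : G → ℂ) 1) := by
        intro X x P hx hX
        simp only [w, hX]
        have := hdne X
        rcases hx with rfl | rfl <;> push_cast <;> field_simp <;> ring
      rw [aux b _ _ hb hbt, aux e _ _ he het, hDb] at hw
      exact (div_left_inj' (mul_ne_zero (Int.cast_ne_zero.mpr (hne0 he)) (hdne e))).mp hw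
    have hT' : (hD.sgn ξ + 2 * hD.sgn l) * (hD.sgn ξ + 2 * hD.sgn l) =
        (hD.sgn ξ + 2 * hD.sgn m) * (hD.sgn ξ + 2 * hD.sgn m) := by exact_mod_cast hT
    rcases hD.sgn_cases ξ with e1 | e1 <;> rcases hD.sgn_cases l with e2 | e2 <;>
      rcases hD.sgn_cases m with e3 | e3 <;> simp [e1, e2, e3] at hσ hT'
  have hao : a ≠ o := hno (by rw [hra]; exact hne0 hε)
  have hε2 : ε * ε = 1 := by rcases hε with rfl | rfl <;> norm_num
  have hca : ∀ {φ : IrrCharacter K}, φ ≠ oneChar K → coef K φ a = ε := fun {φ} hφ => by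
    rw [hcu _ _ hao]
    rcases hcases φ with h | h | h
    exacts [absurd h hφ, h ▸ hra, hall φ h]
  -- the second constituent for nonreal characters
  have hsecond : ∀ φ ∈ J, ∃ b, b ≠ a ∧ b ≠ o ∧ (u φ b = 1 ∨ u φ b = -1) ∧
      (∀ i, i ≠ a → i ≠ b → u φ i = 0) ∧ u ξ b = 0 ∧
      ∀ ψ ∈ J, u ψ ≠ u φ → u ψ b = 0 := by
    intro φ hφ
    obtain ⟨x, y, hxy, hx, hy, hz⟩ := Arith.two_points (hu2 φ hφ)
    obtain ⟨b, hba, hb, hzb⟩ : ∃ b, b ≠ a ∧ (u φ b = 1 ∨ u φ b = -1) ∧
        ∀ i, i ≠ a → i ≠ b → u φ i = 0 := by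
      have hsome : a = x ∨ a = y := by
        by_contra hno'
        push Not at hno'
        exact hne0 hε ((hall φ hφ).symm.trans (hz a hno'.1 hno'.2))
      rcases hsome with rfl | rfl
      exacts [⟨y, hxy.symm, hy, hz⟩, ⟨x, hxy, hx, fun i h1 h2 => hz i h2 h1⟩]
    have hu_a : u φ a = 1 ∨ u φ a = -1 := (hall φ hφ).symm ▸ hε
    refine ⟨b, hba, hno (hne0 hb), hb, hzb, ?_, fun ψ hψ hne => ?_⟩
    · rcases Arith.pick hba.symm hu_a hb hzb hr3.le (hur φ hφ) with h | h
      · exact h.2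
      · rw [hra] at h; exact absurd h.1 (hne0 hε)
    · rcases Arith.pick hba.symm hu_a hb hzb (by rw [hu2 ψ hψ]; norm_num)
        (huu φ hφ ψ hψ (Ne.symm hne)) with h | h
      · exact h.2
      · rw [hall ψ hψ] at h; exact absurd h.1 (hne0 hε)
  -- the constituents of the real character
  obtain ⟨A, B, hAB, hAa, hBa, hA, hB, hz⟩ : ∃ A B, A ≠ B ∧ A ≠ a ∧ B ≠ a ∧
      (u ξ A = 1 ∨ u ξ A = -1) ∧ (u ξ B = 1 ∨ u ξ B = -1) ∧
      ∀ i, i ≠ a → i ≠ A → i ≠ B → u ξ i = 0 := by
    let v : IrrCharacter G → ℤ := Function.update (u ξ) a 0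
    have hv : ∑ i, v i * v i = 2 := by
      rw [← Finset.add_sum_erase _ _ (Finset.mem_univ a)] at hr3 ⊢
      rw [hra, hε2] at hr3
      simp only [v, Function.update_self, mul_zero, zero_add]
      rw [Finset.sum_congr rfl fun i hi => by
        rw [Function.update_of_ne (Finset.ne_of_mem_erase hi)]]
      linarith
    obtain ⟨A, B, hAB, hA, hB, hz⟩ := Arith.two_points hv
    have hAa : A ≠ a := fun h => hne0 hA (by simp [v, h])
    have hBa : B ≠ a := fun h => hne0 hB (by simp [v, h])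
    simp only [v, Function.update_of_ne hAa] at hA
    simp only [v, Function.update_of_ne hBa] at hB
    exact ⟨A, B, hAB, hAa, hBa, hA, hB, fun i h1 h2 h3 => by
      simpa [v, Function.update_of_ne h1] using hz i h2 h3⟩
  set εA := u ξ A with hεA
  set εB := u ξ B with hεB
  have hAo : A ≠ o := hno (hne0 hA)
  have hBo : B ≠ o := hno (hne0 hB)
  have hnotξ : ∀ X, (u ξ X = 1 ∨ u ξ X = -1) → X ≠ a → ∀ φ ∈ J, u φ X = 0 := by
    intro X hX hXa φ hφ
    obtain ⟨b, hba, -, -, hzb, hξb, -⟩ := hsecond φ hφ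
    exact hzb X hXa fun h => hne0 hX (h ▸ hξb)
  -- values at `t`
  have hsgn1 : hD.sgn (oneChar K) = 1 := by
    have : ((hD.sgn (oneChar K) : ℤ) : ℂ) = ((1 : ℤ) : ℂ) := by rw [hD.sgn_cast]; simp
    exact_mod_cast this
  have hat : (a : G → ℂ) t = ε := by
    rw [hD.value_t]
    have : ∀ φ, coef K φ a * hD.sgn φ = ε * hD.sgn φ - (if φ = oneChar K then ε else 0) := by
      intro φ
      split_ifs with h
      · rw [h, coef_one, hsgn1]; ring
      · rw [hca h]; ring
    rw [Finset.sum_congr rfl fun φ _ => this φ, Finset.sum_sub_distrib, ← Finset.mul_sum,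
      hD.sum_sgn, Finset.sum_ite_eq', if_pos (Finset.mem_univ _)]
    norm_num
  have hXt : ∀ X, (u ξ X = 1 ∨ u ξ X = -1) → X ≠ a →
      (X : G → ℂ) t = ((-(u ξ X * hD.sgn ξ) : ℤ) : ℂ) := by
    intro X hX hXa
    rw [hD.value_t, Finset.sum_eq_single ξ]
    · rw [hcu _ _ (hno (hne0 hX))]
    · intro φ _ hφ
      rcases hcases φ with h | h | h
      · rw [h, coef_one, zero_mul]
      · exact absurd h hφ
      · rw [hcu _ _ (hno (hne0 hX)), hnotξ X hX hXa φ h, zero_mul]
    · exact fun h => absurd (Finset.mem_univ _) h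
  have hbt : ∀ φ ∈ J, ∀ b, b ≠ o → u ξ b = 0 → (∀ ψ ∈ J, u ψ ≠ u φ → u ψ b = 0) →
      (b : G → ℂ) t = ((-(2 * (u φ b * hD.sgn φ)) : ℤ) : ℂ) := by
    intro φ hφ b hbo hξb hb0
    rw [hD.value_t, Finset.sum_eq_add φ (conjChar φ) (Ne.symm hφ)]
    · rw [hcu _ _ hbo, hcu _ _ hbo, hsame φ hφ _ (hconjJ φ hφ) (.inr (conjChar_conjChar φ)),
        hsgn_conj]
      congr 1; ring
    · intro ψ _ hψ
      rcases hcases ψ with h | h | h
      · rw [h, coef_one, zero_mul]
      · rw [h, hcu _ _ hbo, hξb, zero_mul]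
      · rw [hcu _ _ hbo, hb0 ψ h fun e => (heq_iff φ hφ ψ h e).elim hψ.1
          (fun e' => hψ.2 (by rw [← e', conjChar_conjChar])), zero_mul]
    · exact fun h => absurd (Finset.mem_univ _) h
    · exact fun h => absurd (Finset.mem_univ _) h
  -- sums against coefficients
  have hsumJ : ∀ φ ∈ J, ∀ b, b ≠ a → b ≠ o → (∀ i, i ≠ a → i ≠ b → u φ i = 0) →
      ∀ f : IrrCharacter G → ℂ, ∑ χ, (coef K φ χ : ℂ) * f χ =
        f o + ε * f a + u φ b * f b := by
    intro φ hφ b hba hbo hzb f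
    rw [← Finset.sum_subset (Finset.subset_univ {o, a, b}) (fun i _ hi => by
      simp only [Finset.mem_insert, Finset.mem_singleton, not_or] at hi
      rw [hcu _ _ hi.1, hzb i hi.2.1 hi.2.2, Int.cast_zero, zero_mul]),
      Finset.sum_insert (by simp [hao.symm, hbo.symm]), Finset.sum_pair hba.symm,
      show coef K φ o = 1 from coef_oneChar (hJ1 φ hφ), hcu _ _ hao, hall φ hφ, hcu _ _ hbo,
      Int.cast_one, one_mul, add_assoc]
  have hsumξ : ∀ f : IrrCharacter G → ℂ, ∑ χ, (coef K ξ χ : ℂ) * f χ =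
      f o + ε * f a + εA * f A + εB * f B := by
    intro f
    rw [← Finset.sum_subset (Finset.subset_univ {o, a, A, B}) (fun i _ hi => by
      simp only [Finset.mem_insert, Finset.mem_singleton, not_or] at hi
      rw [hcu _ _ hi.1, hz i hi.2.1 hi.2.2.1 hi.2.2.2, Int.cast_zero, zero_mul]),
      Finset.sum_insert (by simp [hao.symm, hAo.symm, hBo.symm]),
      Finset.sum_insert (by simp [hAa.symm, hBa.symm]), Finset.sum_pair hAB,
      show coef K ξ o = 1 from coef_oneChar hξ1, hcu _ _ hao, hra, hcu _ _ hAo, hcu _ _ hBo,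
      Int.cast_one, one_mul]
    simp only [hεA, hεB]
    ring
  -- degrees
  set D : ℤ := ε * (charDegree (a : G → ℂ) : ℤ) with hDdef
  have hDeq : D = ε * (Nat.card K * mult K a (oneChar K)) - (Nat.card K - 1) := by
    have h := hD.degree_eq a
    have : ∑ φ : IrrCharacter K, coef K φ a = ε * (Nat.card K - 1) := by
      rw [← Finset.add_sum_erase _ _ (Finset.mem_univ (oneChar K)), coef_one, zero_add,
        Finset.sum_congr rfl fun φ hφ => hca (Finset.ne_of_mem_erase hφ), Finset.sum_const,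
        Finset.card_erase_of_mem (Finset.mem_univ _), Finset.card_univ, hD.card_dual,
        nsmul_eq_mul, Nat.cast_sub (by omega), Nat.cast_one]
      ring
    rw [hDdef, h, this, mul_sub, ← mul_assoc ε ε, hε2, one_mul]
  set M : ℤ := ε * mult K a (oneChar K) - 1 with hMdef
  have hDM : D = 1 + M * Nat.card K := by rw [hDeq, hMdef]; ring
  have hMeven : 2 ∣ M := by
    have h := hD.parity a
    have h2 : ∑ φ : IrrCharacter K, coef K φ a * hD.sgn φ = -ε := by
      have h3 := hD.value_t a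
      rw [hat] at h3
      have := Int.cast_injective h3
      linarith
    rw [h2] at h
    rw [hMdef]
    rcases hε with e | e <;> subst e <;> omega
  have hD0 : D ≠ 0 := mul_ne_zero (hne0 hε) (by exact_mod_cast (charDegree_pos a).ne')
  have hxb : ∀ φ ∈ J, ∀ b, b ≠ a → b ≠ o → (∀ i, i ≠ a → i ≠ b → u φ i = 0) →
      u φ b * (charDegree (b : G → ℂ) : ℤ) = -(1 + D) := by
    intro φ hφ b hba hbo hzb
    have h := hdeg (hJ1 φ hφ)
    rw [Arith.sum_pair hba.symm hzb, hall φ hφ] at h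
    linarith
  have hxAB : εA * (charDegree (A : G → ℂ) : ℤ) + εB * (charDegree (B : G → ℂ) : ℤ) = -(1 + D) := by
    have h := hdeg hξ1
    rw [← Finset.sum_subset (Finset.subset_univ {a, A, B}) (fun i _ hi => by
      simp only [Finset.mem_insert, Finset.mem_singleton, not_or] at hi
      rw [hz i hi.1 hi.2.1 hi.2.2, zero_mul]),
      Finset.sum_insert (by simp [hAa.symm, hBa.symm]), Finset.sum_pair hAB, hra] at h
    linarith
  obtain ⟨b₀, hba₀, hbo₀, hb₀, hzb₀, hξb₀, hb0₀⟩ := hsecond l₀ hl₀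
  have hx0 : 1 + D ≠ 0 := fun h => by
    have h2 := hxb l₀ hl₀ b₀ hba₀ hbo₀ hzb₀
    rw [h, neg_zero] at h2
    exact mul_ne_zero (hne0 hb₀) (by exact_mod_cast (charDegree_pos b₀).ne') h2
  have hcD : (D : ℂ) ≠ 0 := Int.cast_ne_zero.mpr hD0
  have hcX : (1 : ℂ) + D ≠ 0 := by exact_mod_cast hx0
  -- the equation
  let w : IrrCharacter G → ℂ := fun χ => (χ : G → ℂ) t * (χ : G → ℂ) t / (χ : G → ℂ) 1
  have hsqs : ∀ {x : ℤ}, x = 1 ∨ x = -1 → (x : ℂ) * x = 1 := fun h => by
    rcases h with rfl | rfl <;> norm_num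
  have hwo : w o = 1 := by simp [w, o]
  have hwa : (ε : ℂ) * w a = 1 / D := by
    simp only [w, hat]
    rw [hdc a, hDdef, Int.cast_mul]
    have : ((charDegree (a : G → ℂ) : ℤ) : ℂ) ≠ 0 := hdc a ▸ hdne a
    rcases hε with e | e <;> subst e <;> push_cast <;> field_simp <;> ring
  have hwX : ∀ X, (u ξ X = 1 ∨ u ξ X = -1) → X ≠ a →
      (u ξ X : ℂ) * w X = 1 / ((u ξ X * (charDegree (X : G → ℂ) : ℤ) : ℤ) : ℂ) := by
    intro X hX hXa
    simp only [w, hXt X hX hXa]
    rw [hdc X, Int.cast_mul]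
    have : ((charDegree (X : G → ℂ) : ℤ) : ℂ) ≠ 0 := hdc X ▸ hdne X
    have h1 := hsqs hX
    have h2 := hsqs (hD.sgn_cases ξ)
    field_simp [Int.cast_ne_zero.mpr (hne0 hX)]
    push_cast
    linear_combination (u ξ X : ℂ) ^ 2 * h2 * (u ξ X : ℂ) ^ 2 + ((u ξ X : ℂ) * u ξ X + 1) * h1
  have hwb : (u l₀ b₀ : ℂ) * w b₀ = -4 / (1 + D) := by
    simp only [w, hbt l₀ hl₀ b₀ hbo₀ hξb₀ hb0₀]
    have h1 := hsqs hb₀
    have h2 := hsqs (hD.sgn_cases l₀)
    have h3 : ((u l₀ b₀ * (charDegree (b₀ : G → ℂ) : ℤ) : ℤ) : ℂ) = -(1 + D) := by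
      rw [hxb l₀ hl₀ b₀ hba₀ hbo₀ hzb₀]; push_cast; ring
    push_cast at h3 ⊢
    rw [hdc b₀, Int.cast_natCast]
    have : ((charDegree (b₀ : G → ℂ) : ℕ) : ℂ) ≠ 0 := by
      exact_mod_cast (charDegree_pos b₀).ne'
    field_simp
    linear_combination (4 * (u l₀ b₀ : ℂ) * (u l₀ b₀ : ℂ) ^ 2 * (1 + D)) * h2 +
      (4 * (u l₀ b₀ : ℂ) * (1 + D) - 4 * (charDegree (b₀ : G → ℂ) : ℂ)) * h1 + 4 * (u l₀ b₀) * h3
  have e1 : (Nat.card G : ℂ) * (1 + 1 / D + -4 / (1 + D)) = 4 * (Nat.card K : ℂ) ^ 3 := by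
    rw [← hD.equation (hJ1 l₀ hl₀), hsumJ l₀ hl₀ b₀ hba₀ hbo₀ hzb₀ w, hwo, hwa, hwb]
  have hAB2 : εA * (charDegree (A : G → ℂ) : ℤ) = εB * (charDegree (B : G → ℂ) : ℤ) := by
    have e2 : (Nat.card G : ℂ) * (1 + 1 / D + (εA * w A + εB * w B)) =
        4 * (Nat.card K : ℂ) ^ 3 := by
      rw [← hD.equation hξ1, hsumξ w, hwo, hwa]
      ring
    have e3 := mul_left_cancel₀ (natCard_ne_zero (G := G)) (e2.trans e1.symm)
    rw [hεA, hεB, hwX A hA hAa, hwX B hB hBa] at e3
    rw [← hεA, ← hεB] at e3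
    have hA0 : εA * (charDegree (A : G → ℂ) : ℤ) ≠ 0 :=
      mul_ne_zero (hne0 hA) (by exact_mod_cast (charDegree_pos A).ne')
    have hB0 : εB * (charDegree (B : G → ℂ) : ℤ) ≠ 0 :=
      mul_ne_zero (hne0 hB) (by exact_mod_cast (charDegree_pos B).ne')
    generalize εA * (charDegree (A : G → ℂ) : ℤ) = x at *
    generalize εB * (charDegree (B : G → ℂ) : ℤ) = y at *
    have hx : (x : ℂ) ≠ 0 := Int.cast_ne_zero.mpr hA0
    have hy : (y : ℂ) ≠ 0 := Int.cast_ne_zero.mpr hB0
    have h4 : 1 / (x : ℂ) + 1 / (y : ℂ) = -4 / (1 + D) := by linear_combination e3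
    have hs : (1 : ℂ) + D = -((x : ℂ) + y) := by
      have : ((x + y : ℤ) : ℂ) = ((-(1 + D) : ℤ) : ℂ) := by rw [hxAB]
      push_cast at this
      linear_combination this
    rw [hs] at h4
    rw [hs] at hcX
    have hxy : (x : ℂ) + y ≠ 0 := fun h => hcX (by rw [h, neg_zero])
    field_simp at h4
    have : ((x : ℂ) - y) * ((x : ℂ) - y) = 0 := by linear_combination h4
    exact_mod_cast sub_eq_zero.mp (mul_self_eq_zero.mp this)
  -- the order
  have hcard : (Nat.card G : ℤ) * M ^ 2 = 4 * Nat.card K * (D * (1 + D)) := by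
    have h : ((((Nat.card G : ℤ) * M ^ 2) * (Nat.card K : ℤ) ^ 2 : ℤ) : ℂ) =
        (((4 * Nat.card K * (D * (1 + D))) * (Nat.card K : ℤ) ^ 2 : ℤ) : ℂ) := by
      have hd : ((D - 1 : ℤ) : ℂ) = (M : ℂ) * (Nat.card K : ℂ) := by
        rw [hDM]; push_cast; ring
      push_cast at hd ⊢
      have h' := e1
      field_simp at h'
      linear_combination h' - (Nat.card G : ℂ) * ((D : ℂ) - 1 + M * Nat.card K) * hd
    exact mul_right_cancel₀ (by simpa using (Nat.card_pos (α := K)).ne') (Int.cast_injective h)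
  obtain ⟨n, hn⟩ : ∃ n : ℕ, Nat.card G = 2 * Nat.card K * n :=
    ⟨_, by rw [← hD.card_C, Subgroup.card_mul_index]⟩
  obtain ⟨j, hj⟩ := hMeven
  have hjj : M = 2 ∨ M = -2 := by
    have h := hcard
    rw [hn, hDM, hj] at h
    push_cast at h
    have h' : (n : ℤ) * j ^ 2 = (1 + 2 * j * Nat.card K) * (1 + j * Nat.card K) := by
      have hk0 : (Nat.card K : ℤ) ≠ 0 := by simpa using (Nat.card_pos (α := K)).ne'
      refine mul_left_cancel₀ (mul_ne_zero (by norm_num : (8 : ℤ) ≠ 0) hk0) ?_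
      linear_combination h
    have hu : j ∣ 1 := ⟨(n : ℤ) * j - 3 * Nat.card K - 2 * j * (Nat.card K : ℤ) ^ 2, by
      linear_combination -h'⟩
    rcases Int.isUnit_iff.mp (isUnit_of_dvd_one hu) with e | e <;> subst e <;> simp [hj]
  have hM2 : M ^ 2 = 4 := by rcases hjj with e | e <;> rw [e] <;> norm_num
  refine ⟨a, A, B, ε, εA, εB, M, hε, hA, hB, hao, hjj, hDM, hAB2, ?_, ?_, ?_, ?_⟩
  · rw [← hAB2] at hxAB; rw [hDM] at hxAB; linarith
  · rw [hM2, hDM] at hcard
    linarith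
  · intro y hy hy1
    have hyk : (⟨y, hy⟩ : K) ≠ 1 := fun h => hy1 (congrArg Subtype.val h)
    have h := hD.value hyk a
    rw [h]
    have : ∀ φ : IrrCharacter K, (coef K φ a : ℂ) * (φ : K → ℂ) ⟨y, hy⟩ =
        (ε : ℂ) * (φ : K → ℂ) ⟨y, hy⟩ - (if φ = oneChar K then (ε : ℂ) else 0) := by
      intro φ
      split_ifs with e
      · rw [e, coef_one]; simp
      · rw [hca e]; ring
    rw [Finset.sum_congr rfl fun φ _ => this φ, Finset.sum_sub_distrib, ← Finset.mul_sum,
      hD.sum_dual hyk, Finset.sum_ite_eq', if_pos (Finset.mem_univ _)]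
    ring
  · intro g hg
    let f : IrrCharacter G → ℂ := fun χ => conj ((χ : G → ℂ) g)
    have hfo : f o = 1 := by simp [f, o]
    have h1 : 1 + (ε : ℂ) * f a + εA * f A + εB * f B = 0 := by
      have h := hD.column_away ξ hg
      rw [hsumξ f, hfo] at h
      exact h
    refine ⟨?_, ?_⟩
    · have := congrArg conj h1
      simpa [f, map_add, map_mul, map_intCast] using this
    set S : ℂ := (ε : ℂ) * f a with hS
    let T : IrrCharacter K → ℂ := fun φ =>
      ∑ χ, (coef K φ χ : ℂ) * ((χ : G → ℂ) t / (χ : G → ℂ) 1 * f χ)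
    have hTone : T (oneChar K) = 0 := by simp [T, coef_one]
    have hTa : (ε : ℂ) * ((a : G → ℂ) t / (a : G → ℂ) 1 * f a) = S / D := by
      rw [hat, hdc a, hS, hDdef, Int.cast_mul]
      have : ((charDegree (a : G → ℂ) : ℤ) : ℂ) ≠ 0 := hdc a ▸ hdne a
      rcases hε with e | e <;> subst e <;> push_cast <;> field_simp <;> ring
    have hT : ∀ φ, φ ≠ oneChar K →
        T φ = 1 + S / D - 2 * (hD.sgn φ : ℂ) * (1 + S) / (1 + D) := by
      intro φ hφ
      rcases hcases φ with h | h | h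
      · exact absurd h hφ
      · rw [h]
        simp only [T]
        rw [hsumξ, hTa, show f o = 1 from hfo, show (o : G → ℂ) t = 1 by simp [o],
          show (o : G → ℂ) 1 = 1 by simp [o], hXt A hA hAa, hXt B hB hBa, hdc A, hdc B]
        have hA0 : ((charDegree (A : G → ℂ) : ℤ) : ℂ) ≠ 0 := hdc A ▸ hdne A
        have hB0 : ((charDegree (B : G → ℂ) : ℤ) : ℂ) ≠ 0 := hdc B ▸ hdne B
        have eA : (((εA * (charDegree (A : G → ℂ) : ℤ)) * 2 : ℤ) : ℂ) = -(1 + D) := by
          have : εA * (charDegree (A : G → ℂ) : ℤ) * 2 = -(1 + D) := by linarith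
          rw [this]; push_cast; ring
        have eB : (((εB * (charDegree (B : G → ℂ) : ℤ)) * 2 : ℤ) : ℂ) = -(1 + D) := by
          have : εB * (charDegree (B : G → ℂ) : ℤ) * 2 = -(1 + D) := by linarith
          rw [this]; push_cast; ring
        rw [← hεA, ← hεB]
        push_cast at eA eB ⊢
        have a2 := hsqs hA
        have b2 := hsqs hB
        have hAeq : ((charDegree (A : G → ℂ) : ℕ) : ℂ) = -(εA : ℂ) * (1 + D) / 2 := by
          linear_combination (εA : ℂ) / 2 * eA - ((charDegree (A : G → ℂ) : ℕ) : ℂ) * a2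
        have hBeq : ((charDegree (B : G → ℂ) : ℕ) : ℂ) = -(εB : ℂ) * (1 + D) / 2 := by
          linear_combination (εB : ℂ) / 2 * eB - ((charDegree (B : G → ℂ) : ℕ) : ℂ) * b2
        rw [hAeq, hBeq]
        have : (εA : ℂ) ≠ 0 := Int.cast_ne_zero.mpr (hne0 hA)
        have : (εB : ℂ) ≠ 0 := Int.cast_ne_zero.mpr (hne0 hB)
        field_simp
        linear_combination (2 * (hD.sgn ξ : ℂ) * (D : ℂ)) * h1
      · obtain ⟨b, hba, hbo, hb, hzb, hξb, hb0⟩ := hsecond φ h
        have h2 : 1 + (ε : ℂ) * f a + u φ b * f b = 0 := by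
          have h' := hD.column_away φ hg
          rw [hsumJ φ h b hba hbo hzb f, hfo] at h'
          exact h'
        simp only [T]
        rw [hsumJ φ h b hba hbo hzb, hTa, show f o = 1 from hfo,
          show (o : G → ℂ) t = 1 by simp [o], show (o : G → ℂ) 1 = 1 by simp [o],
          hbt φ h b hbo hξb hb0, hdc b]
        have hb2 := hsqs hb
        have h3 : ((u φ b * (charDegree (b : G → ℂ) : ℤ) : ℤ) : ℂ) = -(1 + D) := by
          rw [hxb φ h b hba hbo hzb]; push_cast; ring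
        push_cast at h3 ⊢
        have hbeq : ((charDegree (b : G → ℂ) : ℕ) : ℂ) = -(u φ b : ℂ) * (1 + D) := by
          linear_combination (u φ b : ℂ) * h3 - ((charDegree (b : G → ℂ) : ℕ) : ℂ) * hb2
        rw [hbeq]
        have : (u φ b : ℂ) ≠ 0 := Int.cast_ne_zero.mpr (hne0 hb)
        field_simp
        linear_combination (2 * (hD.sgn φ : ℂ) * (D : ℂ)) * h2
    have hJg : ∑ χ : IrrCharacter G,
        (χ : G → ℂ) t * (χ : G → ℂ) t / (χ : G → ℂ) 1 * f χ =
        1 + S / D + 2 * ((Nat.card K : ℂ) - 1) * (1 + S) / (1 + D) := by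
      have e : ∀ χ : IrrCharacter G, (χ : G → ℂ) t * (χ : G → ℂ) t / (χ : G → ℂ) 1 * f χ =
          -∑ φ : IrrCharacter K, (hD.sgn φ : ℂ) *
            ((coef K φ χ : ℂ) * ((χ : G → ℂ) t / (χ : G → ℂ) 1 * f χ)) := by
        intro χ
        conv_lhs => rw [mul_div_assoc, mul_assoc]; arg 1; rw [hD.value_t]
        push_cast
        rw [neg_mul, Finset.sum_mul]
        congr 1
        exact Finset.sum_congr rfl fun φ _ => by ring
      rw [Finset.sum_congr rfl fun χ _ => e χ, Finset.sum_neg_distrib, Finset.sum_comm]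
      simp only [← Finset.mul_sum]
      change -(∑ φ : IrrCharacter K, (hD.sgn φ : ℂ) * T φ) = _
      have e2 : ∀ φ : IrrCharacter K, (hD.sgn φ : ℂ) * T φ =
          (hD.sgn φ : ℂ) * (1 + S / D) - 2 * (1 + S) / (1 + D) -
            (if φ = oneChar K then 1 + S / D - 2 * (1 + S) / (1 + D) else 0) := by
        intro φ
        split_ifs with h
        · rw [h, hTone, hsgn1, Int.cast_one]; ring
        · rw [hT φ h]
          have hs := hsqs (hD.sgn_cases φ)
          linear_combination (-2 * (1 + S) / (1 + D)) * hs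
      rw [Finset.sum_congr rfl fun φ _ => e2 φ, Finset.sum_sub_distrib, Finset.sum_sub_distrib,
        ← Finset.sum_mul, ← Int.cast_sum, hD.sum_sgn, Int.cast_zero, zero_mul, Finset.sum_const,
        Finset.card_univ, hD.card_dual, nsmul_eq_mul, Finset.sum_ite_eq',
        if_pos (Finset.mem_univ _)]
      ring
    have hmain := hD.class_mult g
    rw [hJg] at hmain
    have hmain' : 4 * (Nat.card K : ℂ) ^ 2 *
        (Nat.card {u : G // orderOf u = 2 ∧ orderOf (u * g) = 2} : ℂ) * D * (1 + D) =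
        (Nat.card G : ℂ) * (D * (1 + D) + S * (1 + D) +
          2 * ((Nat.card K : ℂ) - 1) * (1 + S) * D) := by
      rw [← hmain]
      field_simp
    have := congrArg conj hmain'
    simp only [S, f, map_add, map_mul, map_sub, map_pow, map_intCast, map_natCast, map_ofNat,
      map_one, Complex.conj_conj] at this
    rw [hDM] at this
    push_cast at this
    linear_combination this

end CfsgLib.BrauerSuzukiWall
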