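import Cfsg.Agent.BrauerSuzukiWall.Centralizers
import Cfsg.Agent.Alperin.Basic
import Mathlib

/-!
The case `q = 2|K| - 1`: the centraliser of an element of order dividing `q` is an abelian Sylow
subgroup, and a trivial intersection set.
-/

set_option autoImplicit false

namespace CfsgLib.BrauerSuzukiWall

open Cfsg CfsgLib.Chars

variable {G : Type*} [Group G] [Finite G] {t : G} {K : Subgroup G} {s : G}
  {a : IrrCharacter G} {ε M : ℤ} {q L : ℕ}
variable (hS : Setting t K s a ε M q L)
include hS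

theorem Setting.not_real (hM : M = -2) {g : G} (hg : g ≠ 1) (hgq : orderOf g ∣ q) (c : G) :
    c * g * c⁻¹ ≠ g⁻¹ := fun h => by
  have h1 := exists_involution_inverting (hS.odd_of_dvd (.inl rfl) hgq) hg
    (hS.odd_of_dvd (.inl rfl) (hS.card_centralizer_dvd (.inl rfl) hg hgq)) h
  rw [(hS.kind_q hg hgq).2.2 hM] at h1
  exact lt_irrefl 0 h1

/-- Two classes of elements of order dividing `q`. -/
theorem Setting.two_classes (hM : M = -2) {g : G} (hg : g ≠ 1) (hgq : orderOf g ∣ q) :
    Nat.card (Subgroup.centralizer ({g} : Set G)) = q ∧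
      ∀ g' : G, g' ≠ 1 → orderOf g' ∣ q → IsConj g g' ∨ IsConj g⁻¹ g' := by
  obtain ⟨hq1, hL1⟩ := hS.one_lt
  have hk := hS.four_le
  obtain ⟨hq, hL⟩ : q + 1 = 2 * Nat.card K ∧ L + 1 = Nat.card K := by
    rcases hS.cases with h | h
    · omega
    · exact h.2
  have hgi : g⁻¹ ≠ 1 := inv_ne_one.mpr hg
  have hgiq : orderOf g⁻¹ ∣ q := by rw [orderOf_inv]; exact hgq
  have hC : Nat.card (Subgroup.centralizer ({g⁻¹} : Set G)) =
      Nat.card (Subgroup.centralizer ({g} : Set G)) := by
    congr 2; ext x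
    simp only [Subgroup.mem_centralizer_singleton_iff]
    exact ⟨fun h => by simpa using (show Commute x g⁻¹ from h).inv_right.eq,
      fun h => (show Commute x g from h).inv_right.eq⟩
  set c := Nat.card (Subgroup.centralizer ({g} : Set G)) with hc
  have hcq : c ≤ q := Nat.le_of_dvd (by omega) (hS.card_centralizer_dvd (.inl rfl) hg hgq)
  have h1 := card_isConj_mul_card_centralizer g
  have h2 := card_isConj_mul_card_centralizer g⁻¹
  rw [hC] at h2
  let f : {x : G // IsConj g x} ⊕ {x : G // IsConj g⁻¹ x} → {x : G // x ≠ 1 ∧ orderOf x ∣ q} :=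
    Sum.elim
      (fun x => ⟨x.1, fun e => hg (isConj_one_left.mp (e ▸ x.2)), by
        obtain ⟨d, hd⟩ := isConj_iff.mp x.2
        rw [← hd, orderOf_conj_eq]; exact hgq⟩)
      (fun x => ⟨x.1, fun e => hgi (isConj_one_left.mp (e ▸ x.2)), by
        obtain ⟨d, hd⟩ := isConj_iff.mp x.2
        rw [← hd, orderOf_conj_eq]; exact hgiq⟩)
  have hf : Function.Injective f := by
    rintro (x | x) (y | y) e <;> simp only [f, Sum.elim_inl, Sum.elim_inr, Subtype.mk.injEq] at e
    · exact congrArg Sum.inl (Subtype.ext e)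
    · exfalso
      obtain ⟨d, hd⟩ := isConj_iff.mp ((e ▸ x.2 : IsConj g y.1).trans y.2.symm)
      exact hS.not_real hM hg hgq d hd
    · exfalso
      obtain ⟨d, hd⟩ := isConj_iff.mp ((e.symm ▸ y.2 : IsConj g x.1).trans x.2.symm)
      exact hS.not_real hM hg hgq d hd
    · exact congrArg Sum.inr (Subtype.ext e)
  have h3 := Nat.card_le_card_of_injective f hf
  rw [Nat.card_sum] at h3
  have h4 := hS.card_kinds.2
  set A := Nat.card {x : G // IsConj g x}
  set B := Nat.card {x : G // IsConj g⁻¹ x}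
  set E := Nat.card {x : G // x ≠ 1 ∧ orderOf x ∣ q}
  rw [hS.card] at h1 h2
  have hE : E = 2 * (2 * Nat.card K * L) := by
    have hq' : q = 2 * L + 1 := by omega
    have hK' : Nat.card K = L + 1 := by omega
    rw [hq'] at h4; rw [hK']
    linarith
  have hge : ∀ X : ℕ, X * c = 2 * Nat.card K * q * L → 2 * Nat.card K * L ≤ X := by
    intro X hX
    have : X * c ≤ X * q := Nat.mul_le_mul_left X hcq
    rw [hX, show 2 * Nat.card K * q * L = 2 * Nat.card K * L * q by ring] at this
    exact Nat.le_of_mul_le_mul_right this (by omega)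
  have hA := hge A h1
  have hB := hge B h2
  refine ⟨?_, fun g' hg' hgq' => ?_⟩
  · have hA' : A = 2 * Nat.card K * L := by omega
    rw [hA', show 2 * Nat.card K * q * L = 2 * Nat.card K * L * q by ring] at h1
    exact Nat.eq_of_mul_eq_mul_left (by positivity) h1
  · obtain ⟨x, hx⟩ := (hf.bijective_of_nat_card_le (by rw [Nat.card_sum]; omega)).2 ⟨g', hg', hgq'⟩
    rcases x with x | x
    · exact .inl (by rw [show g' = x.1 from (congrArg Subtype.val hx).symm]; exact x.2)
    · exact .inr (by rw [show g' = x.1 from (congrArg Subtype.val hx).symm]; exact x.2)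

/-- `q` is a prime power. -/
theorem Setting.exists_prime (hM : M = -2) :
    ∃ p : ℕ, p.Prime ∧ p ∣ q ∧ q = p ^ (Nat.card G).factorization p ∧
      ∀ g : G, g ≠ 1 → orderOf g ∣ q → orderOf g = p := by
  obtain ⟨hq1, -⟩ := hS.one_lt
  obtain ⟨p, hp, hpq⟩ := Nat.exists_prime_and_dvd (n := q) (by omega)
  haveI := Fact.mk hp
  have hex : ∀ r : ℕ, r.Prime → r ∣ q → ∃ g : G, orderOf g = r ∧ g ≠ 1 := fun r hr hrq => by
    haveI := Fact.mk hr
    obtain ⟨g, hg⟩ := exists_prime_orderOf_dvd_card' (G := G) r (by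
      rw [hS.card]; exact (hrq.mul_left _).mul_right _)
    exact ⟨g, hg, fun e => hr.one_lt.ne' (by rw [← hg, e, orderOf_one])⟩
  obtain ⟨g₀, hg₀, hg₀1⟩ := hex p hp hpq
  have hord : ∀ g : G, g ≠ 1 → orderOf g ∣ q → orderOf g = p := by
    intro g hg hgq
    rcases (hS.two_classes hM hg₀1 (hg₀ ▸ hpq)).2 g hg hgq with h | h <;>
      obtain ⟨c, hc⟩ := isConj_iff.mp h <;> rw [← hc, orderOf_conj_eq]
    · exact hg₀
    · rw [orderOf_inv]; exact hg₀
  refine ⟨p, hp, hpq, ?_, hord⟩
  rw [hS.factorization_eq (.inl rfl) hp hpq]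
  have h : q = p ^ q.primeFactorsList.length :=
    Nat.eq_prime_pow_of_unique_prime_dvd (by omega) fun {r} hr hrq => by
      obtain ⟨g, hg, hg1⟩ := hex r hr hrq
      rw [← hg]; exact hord g hg1 (hg.symm ▸ hrq)
  conv_rhs => rw [h, Nat.Prime.factorization_pow hp, Finsupp.single_eq_same]
  exact h

theorem Setting.normalizer_L (hM : M = -2) {w : G} (hw : w ≠ 1) (hwL : orderOf w ∣ L) :
    Nat.card (Subgroup.normalizer (Subgroup.centralizer ({w} : Set G) : Set G)) = 2 * L := by
  obtain ⟨hq1, hL1⟩ := hS.one_lt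
  have hk := hS.four_le
  obtain ⟨hq, hL⟩ : q + 1 = 2 * Nat.card K ∧ L + 1 = Nat.card K := by
    rcases hS.cases with h | h
    · omega
    · exact h.2
  set N := Subgroup.normalizer (Subgroup.centralizer ({w} : Set G) : Set G)
  have h1 := hS.card_kinds.1
  rw [hS.card_kind (.inl rfl) hw hwL, hM] at h1
  push_cast [Nat.cast_sub hL1.le] at h1
  have hq' : (q : ℤ) = 2 * Nat.card K - 1 := by omega
  have hL' : (L : ℤ) = Nat.card K - 1 := by omega
  have hne : (L : ℤ) - 1 ≠ 0 := by omega
  have h5 : (N.index : ℤ) = ((q * Nat.card K : ℕ) : ℤ) := by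
    refine mul_right_cancel₀ hne ?_
    push_cast
    rw [hq', hL'] at h1 ⊢
    linear_combination h1
  have h6 := N.card_mul_index
  rw [show N.index = q * Nat.card K by exact_mod_cast h5, hS.card,
    show 2 * Nat.card K * q * L = 2 * L * (q * Nat.card K) by ring] at h6
  exact Nat.eq_of_mul_eq_mul_right (by positivity) h6

/-- Odd order elements outside the `q`-kind have abelian centralisers, closed under odd fusion. -/
theorem Setting.other_kind (hM : M = -2) {w : G} (hw : w ≠ 1) (hodd : Odd (orderOf w))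
    (hwq : Nat.Coprime (orderOf w) q) :
    (∀ x ∈ Subgroup.centralizer ({w} : Set G), ∀ y ∈ Subgroup.centralizer ({w} : Set G),
        x * y = y * x) ∧
      ∀ x : G, Odd (orderOf x) → x * w * x⁻¹ ∈ Subgroup.centralizer ({w} : Set G) →
        x ∈ Subgroup.centralizer ({w} : Set G) := by
  have hD := hS.data
  by_cases hwK : InK K w
  · obtain ⟨y, hy, hy1, hc⟩ := hwK
    obtain ⟨c, rfl⟩ := isConj_iff.mp hc
    have hyt : y ≠ t := fun e => by
      rw [orderOf_conj_eq, e, hD.t_ord] at hodd
      exact absurd hodd (by decide)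
    have hmem : ∀ z, z ∈ Subgroup.centralizer ({c * y * c⁻¹} : Set G) ↔ c⁻¹ * z * c ∈ K := by
      intro z
      rw [Subgroup.mem_centralizer_singleton_iff]
      constructor <;> intro h
      · refine hD.mem_of_comm hy hy1 hyt ?_
        calc c⁻¹ * z * c * y = c⁻¹ * (z * (c * y * c⁻¹)) * c := by group
          _ = c⁻¹ * (c * y * c⁻¹ * z) * c := by rw [h]
          _ = y * (c⁻¹ * z * c) := by group
      · calc z * (c * y * c⁻¹) = c * (c⁻¹ * z * c * y) * c⁻¹ := by group
          _ = c * (y * (c⁻¹ * z * c)) * c⁻¹ := by rw [hD.comm _ h y hy]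
          _ = c * y * c⁻¹ * z := by group
    refine ⟨fun x hx z hz => ?_, fun x hxodd hx => ?_⟩
    · have h := hD.comm _ ((hmem x).mp hx) _ ((hmem z).mp hz)
      calc x * z = c * (c⁻¹ * x * c * (c⁻¹ * z * c)) * c⁻¹ := by group
        _ = c * (c⁻¹ * z * c * (c⁻¹ * x * c)) * c⁻¹ := by rw [h]
        _ = z * x := by group
    · rw [hmem] at hx ⊢
      have h1 : c⁻¹ * x * c * y * (c⁻¹ * x * c)⁻¹ ∈ K := by
        rw [show c⁻¹ * x * c * y * (c⁻¹ * x * c)⁻¹ = c⁻¹ * (x * (c * y * c⁻¹) * x⁻¹) * c by group]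
        exact hx
      rcases hD.list _ (hD.comm_of_conj_mem hy hy1 h1) with h | h
      · exact h
      · exfalso
        have h2 := hD.orderOf_smul h
        rw [← mul_assoc, hD.s_sq, one_mul,
          show c⁻¹ * x * c = c⁻¹ * x * c⁻¹⁻¹ by rw [inv_inv], orderOf_conj_eq] at h2
        rw [h2] at hxodd
        exact absurd hxodd (by decide)
  · have hwL : orderOf w ∣ L := by
      rcases hS.kind w hw hwK with h | h
      · exact absurd (orderOf_eq_one_iff.mp (Nat.eq_one_of_dvd_coprimes hwq dvd_rfl h.1)) hw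
      · exact h.1
    obtain ⟨hcard, hab, -⟩ := hS.inverted (.inl rfl) hw hwL
    refine ⟨hab, fun x hxodd hx => ?_⟩
    set C := Subgroup.centralizer ({w} : Set G) with hC
    have hxN : x ∈ Subgroup.normalizer (C : Set G) := by
      have h2 := (hS.centralizer_eq_of_mem (.inl rfl) hw hwL hx
        (fun e => hw (conj_eq_one_iff.mp e))).2
      refine Subgroup.mem_normalizer_iff.mpr fun z => ?_
      conv_rhs => rw [hC, ← h2]
      rw [hC, Subgroup.mem_centralizer_singleton_iff, Subgroup.mem_centralizer_singleton_iff]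
      constructor <;> intro h
      · calc x * z * x⁻¹ * (x * w * x⁻¹) = x * (z * w) * x⁻¹ := by group
          _ = x * (w * z) * x⁻¹ := by rw [h]
          _ = x * w * x⁻¹ * (x * z * x⁻¹) := by group
      · calc z * w = x⁻¹ * (x * z * x⁻¹ * (x * w * x⁻¹)) * x := by group
          _ = w * z := by rw [h]; group
    have hi : (C.subgroupOf (Subgroup.normalizer (C : Set G))).index = 2 := by
      have h := (C.subgroupOf (Subgroup.normalizer (C : Set G))).card_mul_index
      rw [Nat.card_congr (Subgroup.subgroupOfEquivOfLe Subgroup.le_normalizer).toEquiv,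
        hS.normalizer_L hM hw hwL, hcard, mul_comm 2 L] at h
      exact Nat.eq_of_mul_eq_mul_left (by have := hS.one_lt; omega) h
    have h2 : x * x ∈ C := Subgroup.mem_subgroupOf.mp
      (Subgroup.mul_self_mem_of_index_two hi (⟨x, hxN⟩ : Subgroup.normalizer (C : Set G)))
    obtain ⟨j, hj⟩ := hxodd
    have hx1 : x = (x * x) ^ (j + 1) := by
      rw [← sq, ← pow_mul, show 2 * (j + 1) = orderOf x + 1 by omega, pow_succ, pow_orderOf_eq_one,
        one_mul]
    rw [hx1]; exact C.pow_mem h2 _

/-- The Sylow subgroups for the prime of `q` are abelian centralisers with trivial intersections. -/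
theorem Setting.sylow_facts (hM : M = -2) {p : ℕ} [Fact p.Prime] (hpq : p ∣ q)
    (hq : q = p ^ (Nat.card G).factorization p) (P : Sylow p G) {x : G}
    (hx : x ∈ (P : Subgroup G)) (hx1 : x ≠ 1) :
    Subgroup.centralizer ({x} : Set G) = (P : Subgroup G) := by
  classical
  have hp : p.Prime := Fact.out
  have hcardP : ∀ R : Sylow p G, Nat.card (R : Subgroup G) = q := fun R => by
    rw [R.card_eq_multiplicity, ← hq]
  have hqtype : ∀ R : Sylow p G, ∀ y ∈ (R : Subgroup G), orderOf y ∣ q := fun R y hy =>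
    hcardP R ▸ Subgroup.orderOf_dvd_natCard _ hy
  -- trivial intersections
  have hTI : ∀ P R : Sylow p G, ((P : Subgroup G) ⊓ (R : Subgroup G)) ≠ ⊥ → P = R := by
    by_contra hno
    push Not at hno
    obtain ⟨P', R', hne', hPR'⟩ := hno
    obtain ⟨⟨P, R⟩, hmem, hmax⟩ := Set.exists_max_image
      {z : Sylow p G × Sylow p G | z.1 ≠ z.2}
      (fun z => Nat.card ((z.1 : Subgroup G) ⊓ (z.2 : Subgroup G) : Subgroup G))
      (Set.toFinite _) ⟨(P', R'), hPR'⟩
    have hPR : P ≠ R := hmem
    set T := (P : Subgroup G) ⊓ (R : Subgroup G) with hT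
    have hTne : T ≠ ⊥ := fun e => hne' (by
      rw [Subgroup.eq_bot_iff_card]
      have h := hmax (P', R') hPR'
      rw [Subgroup.eq_bot_iff_card] at e
      dsimp only at h
      rw [e] at h
      exact le_antisymm h Nat.card_pos)
    set N := Subgroup.normalizer (T : Set G) with hN
    -- `N(T)` has odd order
    have hodd : ∀ v ∈ N, orderOf v ≠ 2 := by
      intro v hvN hv2
      obtain ⟨z, hz⟩ := Subgroup.ne_bot_iff_exists_ne_one.mp hTne
      have hvi := inv_eq_of_mul_eq_one_right (orderOf_eq_two_iff'.mp hv2).1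
      let f : T → T := fun x => ⟨(x : G)⁻¹ * (v * x * v⁻¹),
        T.mul_mem (T.inv_mem x.2) ((Subgroup.mem_normalizer_iff.mp hvN x).mp x.2)⟩
      have hf : Function.Injective f := by
        intro x y e
        have e' : (x : G)⁻¹ * (v * x * v⁻¹) = (y : G)⁻¹ * (v * y * v⁻¹) := congrArg Subtype.val e
        by_contra hxy
        have h1 : (y : G) * (x : G)⁻¹ ≠ 1 := fun h =>
          hxy (Subtype.ext (mul_inv_eq_one.mp h).symm)
        have h2 : v ∈ Subgroup.centralizer ({(y : G) * (x : G)⁻¹} : Set G) := by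
          rw [Subgroup.mem_centralizer_singleton_iff]
          calc v * ((y : G) * (x : G)⁻¹)
              = (y : G) * ((y : G)⁻¹ * (v * y * v⁻¹)) * ((x : G)⁻¹ * (v * x * v⁻¹))⁻¹ *
                  (x : G)⁻¹ * v := by group
            _ = (y : G) * (x : G)⁻¹ * v := by rw [e']; group
        have h3 := hS.card_centralizer_dvd (.inl rfl) h1
          (hqtype P _ ((P : Subgroup G).mul_mem y.2.1 ((P : Subgroup G).inv_mem x.2.1)))
        have h4 := hS.odd_of_dvd (.inl rfl) ((Subgroup.orderOf_dvd_natCard _ h2).trans h3)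
        rw [hv2] at h4
        exact absurd h4 (by decide)
      obtain ⟨x, hx'⟩ := hf.bijective_of_nat_card_le le_rfl |>.2 z
      have hxz : (x : G)⁻¹ * (v * x * v⁻¹) = (z : G) := congrArg Subtype.val hx'
      refine hS.not_real hM (fun h => hz (Subtype.ext h)) (hqtype P _ z.2.1) v ?_
      rw [← hxz, hvi]
      calc v * ((x : G)⁻¹ * (v * x * v)) * v = v * (x : G)⁻¹ * v * x * (v * v) := by group
        _ = v * (x : G)⁻¹ * v * x := by rw [(orderOf_eq_two_iff'.mp hv2).1, mul_one]
        _ = ((x : G)⁻¹ * (v⁻¹ * x * v⁻¹))⁻¹ := by group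
        _ = ((x : G)⁻¹ * (v * x * v))⁻¹ := by rw [hvi]
    have hoddN : Odd (Nat.card N) := by
      rw [Nat.odd_iff]
      by_contra h
      haveI : Fact (Nat.Prime 2) := ⟨Nat.prime_two⟩
      obtain ⟨v, hv⟩ := exists_prime_orderOf_dvd_card' (G := N) 2 (by omega)
      exact hodd v v.2 (by rw [Subgroup.orderOf_coe, hv])
    -- transfer at each other prime
    let I := {r : ℕ // r.Prime ∧ r ≠ p}
    have hker : ∀ r : I, ∃ H : Subgroup N, H.Normal ∧ ¬ r.1 ∣ Nat.card H ∧
        ∀ n : N, (∃ i, orderOf n = p ^ i) → n ∈ H := by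
      rintro ⟨r, hr, hrp⟩
      haveI := Fact.mk hr
      let S : Sylow r N := default
      have hS' : Subgroup.normalizer ((S : Subgroup N) : Set N) ≤
          Subgroup.centralizer ((S : Subgroup N) : Set N) := by
        rcases subsingleton_or_nontrivial (S : Subgroup N) with h | h
        · intro n _
          rw [Subgroup.mem_centralizer_iff]
          intro m hm
          have : (⟨m, hm⟩ : (S : Subgroup N)) = 1 := Subsingleton.elim _ _
          rw [show m = 1 from congrArg Subtype.val this, one_mul, mul_one]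
        haveI := h
        haveI := S.isPGroup'.center_nontrivial
        obtain ⟨⟨z, hz⟩, hz1⟩ := exists_ne (1 : Subgroup.center (S : Subgroup N))
        set w : G := ((z : N) : G) with hwdef
        have hw1 : w ≠ 1 := fun e => hz1 (Subtype.ext (Subtype.ext (Subtype.ext e)))
        have hwo : orderOf w = orderOf (z : N) := Subgroup.orderOf_coe _
        obtain ⟨i, hi⟩ := IsPGroup.iff_orderOf.mp S.isPGroup' z
        have hwr : orderOf w = r ^ i := by rw [hwo, Subgroup.orderOf_coe, hi]
        have hwodd : Odd (orderOf w) :=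
          hoddN.of_dvd_nat (by rw [hwo]; exact orderOf_dvd_natCard _)
        have hwq : Nat.Coprime (orderOf w) q := by
          rw [hwr, hq]
          exact Nat.Coprime.pow _ _ ((Nat.coprime_primes hr hp).mpr hrp)
        obtain ⟨hab, hclose⟩ := hS.other_kind hM hw1 hwodd hwq
        have hSC : ∀ m ∈ (S : Subgroup N), (m : G) ∈ Subgroup.centralizer ({w} : Set G) := by
          intro m hm
          rw [Subgroup.mem_centralizer_singleton_iff, hwdef]
          have := Subgroup.mem_center_iff.mp hz ⟨m, hm⟩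
          exact congrArg (fun e : (S : Subgroup N) => ((e : N) : G)) this
        intro n hn
        have h1 : (n : G) * w * (n : G)⁻¹ ∈ Subgroup.centralizer ({w} : Set G) := by
          have := hSC _ ((Subgroup.mem_normalizer_iff.mp hn (z : N)).mp z.2)
          simpa [hwdef] using this
        have h2 := hclose n (hoddN.of_dvd_nat (by
          rw [Subgroup.orderOf_coe]; exact orderOf_dvd_natCard _)) h1
        rw [Subgroup.mem_centralizer_iff]
        intro m hm
        exact Subtype.ext (hab _ (hSC m hm) _ h2)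
      refine ⟨(MonoidHom.transferSylow S hS').ker, inferInstance,
        MonoidHom.not_dvd_card_ker_transferSylow S hS', fun n ⟨i, hn⟩ => ?_⟩
      rw [MonoidHom.mem_ker]
      set φ := MonoidHom.transferSylow S hS'
      have h1 : orderOf (φ n) ∣ p ^ i := hn ▸ orderOf_map_dvd φ n
      obtain ⟨j, hj⟩ := IsPGroup.iff_orderOf.mp S.isPGroup' (φ n)
      exact orderOf_eq_one_iff.mp (Nat.eq_one_of_dvd_coprimes
        (Nat.Coprime.pow j i ((Nat.coprime_primes hr hp).mpr hrp)) (hj ▸ dvd_rfl) h1)
    choose H hH hHr hHp using hker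
    set U : Subgroup N := ⨅ r, H r with hU
    have hUp : IsPGroup p U := by
      refine IsPGroup.of_card (n := (Nat.card U).primeFactorsList.length) ?_
      refine Nat.eq_prime_pow_of_unique_prime_dvd Nat.card_pos.ne' fun {r} hr hrU => ?_
      by_contra hrp
      exact hHr ⟨r, hr, hrp⟩ (hrU.trans (Subgroup.card_dvd_of_le (iInf_le _ _)))
    obtain ⟨S, hS'⟩ := (hUp.map N.subtype).exists_le_sylow
    have hin : ∀ R : Sylow p G, (R : Subgroup G) ⊓ N ≤ (S : Subgroup G) := by
      intro R y hy
      refine hS' (Subgroup.mem_map.mpr ⟨⟨y, hy.2⟩, ?_, rfl⟩)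
      rw [hU, Subgroup.mem_iInf]
      intro r
      refine hHp r _ ?_
      obtain ⟨i, hi⟩ := IsPGroup.iff_orderOf.mp R.isPGroup' ⟨y, hy.1⟩
      exact ⟨i, by rw [Subgroup.orderOf_mk, ← hi, Subgroup.orderOf_mk]⟩
    have hgrow : ∀ R : Sylow p G, T < (R : Subgroup G) → R = S := by
      intro R hR
      by_contra hRS
      have h1 := CfsgLib.Alperin.lt_inf_normalizer R.isPGroup' hR
      have h2 : (R : Subgroup G) ⊓ Subgroup.normalizer (T : Set G) ≤
          (R : Subgroup G) ⊓ (S : Subgroup G) := le_inf inf_le_left (hin R)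
      exact absurd (hmax (R, S) hRS)
        (not_le.mpr (Set.ncard_lt_ncard (lt_of_lt_of_le h1 h2) (Set.toFinite _)))
    have hlt : ∀ R : Sylow p G, T ≤ (R : Subgroup G) → T ≠ (R : Subgroup G) → R = S :=
      fun R h1 h2 => hgrow R (lt_of_le_of_ne h1 h2)
    have hTP : T ≠ (P : Subgroup G) := fun e => hPR (Sylow.ext (Subgroup.eq_of_le_of_card_ge
      (by rw [← e]; exact inf_le_right) (by rw [hcardP, hcardP])))
    have hTR : T ≠ (R : Subgroup G) := fun e => hPR (Sylow.ext (Subgroup.eq_of_le_of_card_ge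
      (by rw [← e]; exact inf_le_left) (by rw [hcardP, hcardP])).symm)
    exact hPR ((hlt P inf_le_left hTP).trans (hlt R inf_le_right hTR).symm)
  -- the centraliser
  set C := Subgroup.centralizer ({x} : Set G) with hC
  have hc : Nat.card C = p ^ (Nat.card G).factorization p := by
    rw [← hq]; exact (hS.two_classes hM hx1 (hqtype P x hx)).1
  have : Sylow.ofCard C hc = P := by
    refine hTI _ P fun e => hx1 ?_
    have : x ∈ ((Sylow.ofCard C hc : Subgroup G) ⊓ (P : Subgroup G)) := by
      rw [Sylow.coe_ofCard]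
      exact ⟨Subgroup.mem_centralizer_singleton_iff.mpr rfl, hx⟩
    rwa [e, Subgroup.mem_bot] at this
  rw [← this, Sylow.coe_ofCard]

end CfsgLib.BrauerSuzukiWall
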