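import Cfsg.Agent.BrauerSuzukiWall.SplitPlus
import Cfsg.Agent.S0731
import Cfsg.Agent.Eq.Def_LieExceptional
import Mathlib

/-!
Recognition: a simple group satisfying the conclusion of the Brauer–Suzuki–Wall theorem with
`q ≥ 5` acts as a Zassenhaus group on the cosets of `N(Q)`, so is `PSL(2,q)`.
-/

set_option autoImplicit false

namespace CfsgLib.BrauerSuzukiWall

open Cfsg

variable {G : Type*} [Group G] [Finite G]

/-- Recognition of `PSL(2,q)`, `q` odd. -/
theorem psl_of_conclusion [IsSimpleGroup G] {Q D : Subgroup G} (h : Conclusion Q D)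
    (hq5 : 5 ≤ Nat.card Q) :
    ∃ (F : Type) (_ : Field F) (_ : Fintype F), Odd (Fintype.card F) ∧
      Nonempty (G ≃* Matrix.ProjectiveSpecialLinearGroup (Fin 2) F) := by
  classical
  obtain ⟨hG, hQc, hDab, hDq, hQD, hN, hX⟩ := h
  set N := Subgroup.normalizer (Q : Set G) with hNdef
  have hDab' : ∀ a ∈ D, ∀ b ∈ D, a * b = b * a := fun a ha b hb =>
    congrArg Subtype.val (hDab.is_comm.comm (⟨a, ha⟩ : D) ⟨b, hb⟩)
  have hQab : ∀ a ∈ Q, ∀ b ∈ Q, a * b = b * a := fun a ha b hb => by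
    by_cases hb1 : b = 1
    · rw [hb1, mul_one, one_mul]
    · exact Subgroup.mem_centralizer_singleton_iff.mp (by rw [hQc b hb hb1]; exact ha)
  have hQodd : Odd (Nat.card Q) := ⟨Nat.card D, by omega⟩
  have hDN : D ≤ N := hN ▸ le_sup_right
  have hQN : Q ≤ N := Subgroup.le_normalizer
  -- no element of `D` other than `1` centralises an element of `Q` other than `1`
  have hDQ : ∀ d ∈ D, d ≠ 1 → ∀ v ∈ Q, d * v = v * d → v = 1 := fun d hd hd1 v hv h => by
    by_contra hv1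
    have hdQ : d ∈ Q := by rw [← hQc v hv hv1]; exact Subgroup.mem_centralizer_singleton_iff.mpr h
    exact hd1 (Subgroup.eq_bot_iff_forall _ |>.mp hQD d ⟨hdQ, hd⟩)
  -- decomposition in `N`
  have hdec : ∀ n ∈ N, ∃ v ∈ Q, ∃ d ∈ D, n = v * d := by
    intro n hn
    have h1 : (n : G) ∈ ((Q ⊔ D : Subgroup G) : Set G) := by rw [← hN]; exact hn
    rw [Subgroup.coe_mul_of_right_le_normalizer_left Q D hDN] at h1
    obtain ⟨v, hv, d, hd, e⟩ := Set.mem_mul.mp h1
    exact ⟨v, hv, d, hd, e.symm⟩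
  have hNcard : Nat.card N = Nat.card Q * Nat.card D := by
    rw [← Nat.card_prod]
    refine (Nat.card_eq_of_bijective (fun p : Q × D =>
      (⟨(p.1 : G) * p.2, N.mul_mem (hQN p.1.2) (hDN p.2.2)⟩ : N)) ⟨?_, ?_⟩).symm
    · rintro ⟨v, d⟩ ⟨v', d'⟩ e
      have e' : (v : G) * d = v' * d' := congrArg Subtype.val e
      have e1 : (v' : G)⁻¹ * v = d' * (d : G)⁻¹ := by
        calc (v' : G)⁻¹ * v = (v' : G)⁻¹ * (v * d) * (d : G)⁻¹ := by group
          _ = d' * (d : G)⁻¹ := by rw [e']; group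
      have e2 : (v' : G)⁻¹ * v = 1 := Subgroup.eq_bot_iff_forall _ |>.mp hQD _
        ⟨Q.mul_mem (Q.inv_mem v'.2) v.2, e1 ▸ D.mul_mem d'.2 (D.inv_mem d.2)⟩
      rw [e2] at e1
      exact Prod.ext (Subtype.ext (inv_mul_eq_one.mp e2).symm)
        (Subtype.ext (mul_inv_eq_one.mp e1.symm).symm)
    · rintro ⟨n, hn⟩
      obtain ⟨v, hv, d, hd, rfl⟩ := hdec n hn
      exact ⟨(⟨v, hv⟩, ⟨d, hd⟩), rfl⟩
  set q := Nat.card Q with hq
  set m := Nat.card D with hm
  have hG' : Nat.card G = q * (q + 1) * m := by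
    have : q - 1 = 2 * m := by omega
    rw [this] at hG
    linarith
  have hidx : N.index = q + 1 := by
    have h := N.card_mul_index
    rw [hNcard, hG', show q * (q + 1) * m = q * m * (q + 1) by ring] at h
    exact Nat.eq_of_mul_eq_mul_left (Nat.mul_pos (by omega) (by omega)) h
  have hqm : Nat.Coprime m q := by
    refine Nat.coprime_of_dvd' fun p _ h1 h2 => ?_
    exact (Nat.dvd_add_right (h1.mul_left 2)).mp (hDq.symm ▸ h2)
  haveI : (Q.subgroupOf N).Normal := Subgroup.normal_in_normalizer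
  have hQidx : (Q.subgroupOf N).index = m := by
    have h := (Q.subgroupOf N).card_mul_index
    rw [Nat.card_congr (Subgroup.subgroupOfEquivOfLe hQN).toEquiv, hNcard] at h
    exact Nat.eq_of_mul_eq_mul_left (by omega) h
  have hmemQ : ∀ n ∈ N, orderOf n ∣ q → n ∈ Q := by
    intro n hn hnq
    have h1 : orderOf (QuotientGroup.mk' (Q.subgroupOf N) ⟨n, hn⟩) ∣ q :=
      (orderOf_map_dvd _ _).trans (by rwa [Subgroup.orderOf_mk])
    have h2 : orderOf (QuotientGroup.mk' (Q.subgroupOf N) ⟨n, hn⟩) ∣ m := by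
      rw [← hQidx]; exact orderOf_dvd_natCard _
    have h3 := orderOf_eq_one_iff.mp (Nat.eq_one_of_dvd_coprimes hqm h2 h1)
    rwa [QuotientGroup.mk'_apply, QuotientGroup.eq_one_iff, Subgroup.mem_subgroupOf] at h3
  -- the action
  let o : G ⧸ N := QuotientGroup.mk 1
  have hstab : ∀ g : G, g • o = o ↔ g ∈ N := by
    intro g
    rw [show g • o = QuotientGroup.mk (g * 1) from rfl, mul_one, QuotientGroup.eq, mul_one,
      inv_mem_iff]
  have hfix : ∀ (g x : G), g • (QuotientGroup.mk x : G ⧸ N) = QuotientGroup.mk x →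
      x⁻¹ * g * x ∈ N := by
    intro g x hgx
    have h := QuotientGroup.eq.mp (show (QuotientGroup.mk (g * x) : G ⧸ N) = QuotientGroup.mk x
      from hgx).symm
    rwa [← mul_assoc] at h
  have hfree : ∀ v ∈ Q, v ≠ 1 → ∀ p : G ⧸ N, v • p = p → p = o := by
    intro v hv hv1 p hp
    obtain ⟨x, rfl⟩ := QuotientGroup.mk_surjective p
    have h1 := hfix v x hp
    have h2 : x⁻¹ * v * x ∈ Q := hmemQ _ h1 (by
      rw [show x⁻¹ * v * x = MulAut.conj x⁻¹ v by simp, MulEquiv.orderOf_eq]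
      exact Subgroup.orderOf_dvd_natCard _ hv)
    have hne : x⁻¹ * v * x ≠ 1 := fun e => hv1 (by
      calc v = x * (x⁻¹ * v * x) * x⁻¹ := by group
        _ = 1 := by rw [e]; group)
    have hx : x ∈ N := by
      rw [hNdef, Subgroup.mem_normalizer_iff]
      intro y
      conv_lhs => rw [← hQc _ h2 hne]
      conv_rhs => rw [← hQc v hv hv1]
      rw [Subgroup.mem_centralizer_singleton_iff, Subgroup.mem_centralizer_singleton_iff]
      constructor <;> intro e
      · calc x * y * x⁻¹ * v = x * (y * (x⁻¹ * v * x)) * x⁻¹ := by group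
          _ = x * (x⁻¹ * v * x * y) * x⁻¹ := by rw [e]
          _ = v * (x * y * x⁻¹) := by group
      · calc y * (x⁻¹ * v * x) = x⁻¹ * (x * y * x⁻¹ * v) * x := by group
          _ = x⁻¹ * v * x * y := by rw [e]; group
    exact QuotientGroup.eq.mpr (by rw [mul_one]; exact N.inv_mem hx)
  have hfree' : ∀ v ∈ Q, ∀ y : G ⧸ N, y ≠ o → v • y = y → v = 1 := fun v hv y hy e =>
    by_contra fun h1 => hy (hfree v hv h1 y e)
  have hΩ : Nat.card (G ⧸ N) = q + 1 := hidx
  have hreg : ∀ y z : G ⧸ N, y ≠ o → z ≠ o → ∃! v : Q, (v : G) • y = z := by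
    intro y z hy hz
    have hinj : ∀ v w : Q, (v : G) • y = (w : G) • y → v = w := by
      intro v w e
      refine Subtype.ext (inv_mul_eq_one.mp (hfree' _ (Q.mul_mem (Q.inv_mem w.2) v.2) y hy ?_)).symm
      rw [mul_smul, e, inv_smul_smul]
    have hne : ∀ v : Q, (v : G) • y ≠ o := fun v e => hy (by
      rw [← inv_smul_smul (v : G) y, e, (hstab _).mpr (N.inv_mem (hQN v.2))])
    let f : Q → {p : G ⧸ N // p ≠ o} := fun v => ⟨(v : G) • y, hne v⟩
    have hf : Function.Injective f := fun v w e => hinj v w (congrArg Subtype.val e)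
    have hcard : Nat.card {p : G ⧸ N // p ≠ o} ≤ Nat.card Q := by
      letI := Fintype.ofFinite (G ⧸ N)
      rw [Nat.card_eq_fintype_card, Fintype.card_subtype_compl, Fintype.card_subtype_eq,
        ← Nat.card_eq_fintype_card, hΩ, ← hq]
      omega
    obtain ⟨v, hv⟩ := (hf.bijective_of_nat_card_le hcard).2 ⟨z, hz⟩
    exact ⟨v, congrArg Subtype.val hv,
      fun w hw => hinj w v (hw.trans (congrArg Subtype.val hv).symm)⟩
  have htrans : ∀ p : G ⧸ N, ∃ g : G, g • o = p := fun p => by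
    obtain ⟨x, rfl⟩ := QuotientGroup.mk_surjective p
    exact ⟨x, show (QuotientGroup.mk (x * 1) : G ⧸ N) = _ by rw [mul_one]⟩
  have h2t : MulAction.IsMultiplyPretransitive G (G ⧸ N) 2 := by
    rw [MulAction.is_two_pretransitive_iff]
    intro a b c d hab hcd
    obtain ⟨g, hg⟩ := htrans a
    obtain ⟨g', hg'⟩ := htrans c
    have hb : g⁻¹ • b ≠ o := fun e => hab (by rw [← hg, ← e, smul_inv_smul])
    have hd : g'⁻¹ • d ≠ o := fun e => hcd (by rw [← hg', ← e, smul_inv_smul])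
    obtain ⟨v, hv, -⟩ := hreg _ _ hb hd
    refine ⟨g' * v * g⁻¹, ?_, ?_⟩
    · rw [← hg, mul_smul, mul_smul, inv_smul_smul, (hstab _).mpr (hQN v.2), hg']
    · rw [mul_smul, mul_smul, hv, smul_inv_smul]
  -- the fixed points of `D`
  have hDne : D ≠ ⊥ := fun e => by rw [hm, e, Subgroup.card_bot] at hDq; omega
  obtain ⟨-, u, hu, huD, huinv, hND⟩ := hX D le_rfl hDne
  have hu2 : u * u = 1 := by rw [← sq, ← hu, pow_orderOf_eq_one]
  have hui : u⁻¹ = u := inv_eq_of_mul_eq_one_right hu2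
  have hNDmem : ∀ z ∈ Subgroup.normalizer (D : Set G), z ∈ D ∨ ∃ e ∈ D, z = u * e := by
    intro z hz
    rw [hND] at hz
    have hle : Subgroup.zpowers u ≤ Subgroup.normalizer (D : Set G) := hND ▸ le_sup_right
    have h1 : (z : G) ∈ ((D ⊔ Subgroup.zpowers u : Subgroup G) : Set G) := hz
    rw [Subgroup.coe_mul_of_right_le_normalizer_left D _ hle] at h1
    obtain ⟨e, he, w, hw, rfl⟩ := Set.mem_mul.mp h1
    obtain ⟨i, rfl⟩ := Subgroup.mem_zpowers_iff.mp hw
    rcases Int.even_or_odd' i with ⟨j, rfl | rfl⟩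
    · left
      rw [zpow_mul, zpow_ofNat, sq, hu2, one_zpow, mul_one]
      exact he
    · right
      refine ⟨e⁻¹, D.inv_mem he, ?_⟩
      rw [zpow_add, zpow_mul, zpow_ofNat, sq, hu2, one_zpow, one_mul, zpow_one, ← huinv e he]
      calc e * u = (u * u) * e * u := by rw [hu2, one_mul]
        _ = u * (u * e * u⁻¹) := by rw [hui]; group
  have hcomm_norm : ∀ d ∈ D, d ≠ 1 → ∀ z, z * d = d * z → z ∈ Subgroup.normalizer (D : Set G) := by
    intro d hd hd1 z hz
    rw [← (hX (Subgroup.zpowers d) (Subgroup.zpowers_le.mpr hd)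
      (fun e => hd1 (Subgroup.zpowers_eq_bot.mp e))).1, Subgroup.mem_normalizer_iff]
    intro y
    have hz' : Commute z d := hz
    constructor <;> intro hy <;> obtain ⟨i, hi⟩ := Subgroup.mem_zpowers_iff.mp hy
    · refine Subgroup.mem_zpowers_iff.mpr ⟨i, ?_⟩
      rw [← hi, (hz'.zpow_right i).eq, mul_inv_cancel_right]
    · refine Subgroup.mem_zpowers_iff.mpr ⟨i, ?_⟩
      calc d ^ i = z⁻¹ * (z * d ^ i) := by group
        _ = z⁻¹ * (d ^ i * z) := by rw [(hz'.zpow_right i).eq]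
        _ = y := by rw [hi]; group
  have hCD : ∀ d ∈ D, d * d ≠ 1 → ∀ z, z * d = d * z → z ∈ D := by
    intro d hd hd2 z hz
    rcases hNDmem z (hcomm_norm d hd (fun e => hd2 (by rw [e, mul_one])) z hz) with h | ⟨e, he, rfl⟩
    · exact h
    · exfalso
      refine hd2 (mul_eq_one_iff_inv_eq.mpr ?_)
      calc d⁻¹ = u * d * u⁻¹ := (huinv d hd).symm
        _ = u * (e * d * e⁻¹) * u⁻¹ := by rw [hDab' e he d hd, mul_inv_cancel_right]
        _ = (u * e) * d * (u * e)⁻¹ := by group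
        _ = d := by rw [hz, mul_inv_cancel_right]
  have hQne : ∃ v ∈ Q, v ≠ 1 := by
    haveI : Nontrivial Q := Finite.one_lt_card_iff_nontrivial.mp (by rw [← hq]; omega)
    obtain ⟨⟨v, hv⟩, hv1⟩ := exists_ne (1 : Q)
    exact ⟨v, hv, fun e => hv1 (Subtype.ext e)⟩
  have hinv1 : ∀ d ∈ D, d ≠ 1 → d * d = 1 → ∀ v ∈ Q, d * v * d⁻¹ = v⁻¹ := by
    intro d hd hd1 hd2 v hv
    have hw := (Subgroup.mem_normalizer_iff.mp (hDN hd) v).mp hv
    refine eq_inv_of_mul_eq_one_right (hDQ d hd hd1 _ (Q.mul_mem hv hw) ?_)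
    have hdi : d⁻¹ = d := inv_eq_of_mul_eq_one_right hd2
    calc d * (v * (d * v * d⁻¹)) = d * v * d⁻¹ * ((d * d) * v * d⁻¹) := by group
      _ = d * v * d⁻¹ * v * d⁻¹ := by rw [hd2]; group
      _ = v * (d * v * d⁻¹) * d := by rw [hQab _ hw v hv, hdi]
  have hunique : ∀ d ∈ D, ∀ d' ∈ D, d ≠ 1 → d * d = 1 → d' ≠ 1 → d' * d' = 1 → d = d' := by
    intro d hd d' hd' h1 h2 h1' h2'
    obtain ⟨v, hv, hv1⟩ := hQne
    by_contra hne
    refine hv1 (hDQ (d⁻¹ * d') (D.mul_mem (D.inv_mem hd) hd')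
      (fun e => hne (inv_mul_eq_one.mp e)) v hv ?_)
    have e1 := hinv1 d hd h1 h2 v hv
    have e2 := hinv1 d' hd' h1' h2' v hv
    calc d⁻¹ * d' * v = d⁻¹ * (d' * v * d'⁻¹) * d' := by group
      _ = d⁻¹ * (d * v * d⁻¹) * d' := by rw [e1, e2]
      _ = v * (d⁻¹ * d') := by group
  have hconjD : ∀ n ∈ N, n ∉ Q → ∃ w ∈ Q, ∃ d ∈ D, d ≠ 1 ∧ n = w * d * w⁻¹ := by
    intro n hn hnQ
    obtain ⟨v, hv, d, hd, rfl⟩ := hdec n hn
    have hd1 : d ≠ 1 := fun e => hnQ (by rw [e, mul_one]; exact hv)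
    let f : Q → Q := fun w => ⟨(w : G) * (d * (w : G)⁻¹ * d⁻¹),
      Q.mul_mem w.2 ((Subgroup.mem_normalizer_iff.mp (hDN hd) _).mp (Q.inv_mem w.2))⟩
    have hf : Function.Injective f := by
      intro w w' e
      have e' : (w : G) * (d * (w : G)⁻¹ * d⁻¹) = w' * (d * (w' : G)⁻¹ * d⁻¹) :=
        congrArg Subtype.val e
      refine Subtype.ext (inv_mul_eq_one.mp (hDQ d hd hd1 _ (Q.mul_mem (Q.inv_mem w'.2) w.2) ?_)).symm
      calc d * ((w' : G)⁻¹ * w) = (w' : G)⁻¹ * (w' * (d * (w' : G)⁻¹ * d⁻¹)) * d * w := by group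
        _ = (w' : G)⁻¹ * (w * (d * (w : G)⁻¹ * d⁻¹)) * d * w := by rw [e']
        _ = (w' : G)⁻¹ * w * d := by group
    obtain ⟨w, hw⟩ := (hf.bijective_of_nat_card_le le_rfl).2 ⟨v, hv⟩
    have hw' : (w : G) * (d * (w : G)⁻¹ * d⁻¹) = v := congrArg Subtype.val hw
    exact ⟨w, w.2, d, hd, hd1, by rw [← hw']; group⟩
  have hfixD : ∀ d ∈ D, d ≠ 1 → ∀ p : G ⧸ N, d • p = p → p = o ∨ p = u • o := by
    intro d hd hd1 p hp
    obtain ⟨x, rfl⟩ := QuotientGroup.mk_surjective p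
    have hn := hfix d x hp
    have hn1 : x⁻¹ * d * x ∉ Q := fun h => hd1 (by
      have h1 : orderOf d ∣ q := by
        rw [show d = MulAut.conj x (x⁻¹ * d * x) by simp [mul_assoc], MulEquiv.orderOf_eq]
        exact Subgroup.orderOf_dvd_natCard _ h
      exact orderOf_eq_one_iff.mp (Nat.eq_one_of_dvd_coprimes hqm
        (Subgroup.orderOf_dvd_natCard _ hd) h1))
    obtain ⟨w, hw, d', hd', hd'1, e⟩ := hconjD _ hn hn1
    have hg : (x * w)⁻¹ * d * (x * w) = d' := by
      calc (x * w)⁻¹ * d * (x * w) = w⁻¹ * (x⁻¹ * d * x) * w := by group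
        _ = d' := by rw [e]; group
    have hy : x * w ∈ Subgroup.normalizer (D : Set G) := by
      by_cases hd2 : d * d = 1
      · have hd'2 : d' * d' = 1 := by
          rw [← hg]
          calc _ = (x * w)⁻¹ * (d * d) * (x * w) := by group
            _ = 1 := by rw [hd2]; group
        have := hunique d hd d' hd' hd1 hd2 hd'1 hd'2
        refine hcomm_norm d hd hd1 _ ?_
        rw [← this] at hg
        calc x * w * d = x * w * ((x * w)⁻¹ * d * (x * w)) := by rw [hg]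
          _ = d * (x * w) := by group
      · have hd'2 : d' * d' ≠ 1 := fun h' => hd2 (by
          calc d * d = (x * w) * ((x * w)⁻¹ * d * (x * w) * ((x * w)⁻¹ * d * (x * w))) * (x * w)⁻¹ := by
                group
            _ = 1 := by rw [hg, h']; group)
        rw [Subgroup.mem_normalizer_iff]
        intro y
        constructor <;> intro hy
        · refine hCD d hd hd2 _ ?_
          have hyd := hDab' y hy d' hd'
          rw [← hg] at hyd
          calc x * w * y * (x * w)⁻¹ * d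
              = x * w * (y * ((x * w)⁻¹ * d * (x * w))) * (x * w)⁻¹ := by group
            _ = x * w * ((x * w)⁻¹ * d * (x * w) * y) * (x * w)⁻¹ := by rw [hyd]
            _ = d * (x * w * y * (x * w)⁻¹) := by group
        · refine hCD d' hd' hd'2 _ ?_
          have hyd := hDab' _ hy d hd
          rw [← hg]
          calc y * ((x * w)⁻¹ * d * (x * w))
              = (x * w)⁻¹ * (x * w * y * (x * w)⁻¹ * d) * (x * w) := by group
            _ = (x * w)⁻¹ * d * (x * w) * y := by rw [hyd]; group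
    have hxw : (QuotientGroup.mk x : G ⧸ N) = QuotientGroup.mk (x * w) :=
      QuotientGroup.eq.mpr (by rw [inv_mul_cancel_left]; exact hQN hw)
    rcases hNDmem _ hy with h' | ⟨e', he', h'⟩
    · exact .inl (hxw.trans (QuotientGroup.eq.mpr (by rw [mul_one]; exact N.inv_mem (hDN h'))))
    · refine .inr (hxw.trans ?_)
      rw [h', show u • o = (QuotientGroup.mk (u * 1) : G ⧸ N) from rfl, mul_one]
      exact QuotientGroup.eq.mpr (by
        rw [mul_inv_rev, mul_assoc, inv_mul_cancel, mul_one]; exact N.inv_mem (hDN he'))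
  -- three points
  have h3 : ∀ g : G, ∀ a b c : G ⧸ N, a ≠ b → b ≠ c → a ≠ c → g • a = a → g • b = b →
      g • c = c → g = 1 := by
    intro g a b c hab hbc hac hga hgb hgc
    obtain ⟨x, hx⟩ := htrans a
    set g' := x⁻¹ * g * x with hg'
    have key : ∀ p : G ⧸ N, g • p = p → g' • (x⁻¹ • p) = x⁻¹ • p := fun p hp => by
      rw [hg', mul_smul, mul_smul, smul_inv_smul, hp]
    have hneo : ∀ p, a ≠ p → x⁻¹ • p ≠ o := fun p hp e => hp (by
      rw [← hx, ← e, smul_inv_smul])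
    have hg'N : g' ∈ N := (hstab _).mp (by
      have := key a hga
      rwa [← hx, inv_smul_smul] at this)
    suffices g' = 1 by
      calc g = x * g' * x⁻¹ := by rw [hg']; group
        _ = 1 := by rw [this]; group
    by_contra hg1
    by_cases hgQ : g' ∈ Q
    · exact hneo b hab (hfree g' hgQ hg1 _ (key b hgb))
    · obtain ⟨w, hw, d, hd, hd1, e⟩ := hconjD g' hg'N hgQ
      have hbd : ∀ p, a ≠ p → g • p = p → w⁻¹ • x⁻¹ • p = u • o := by
        intro p hap hp
        have h1 : d • (w⁻¹ • x⁻¹ • p) = w⁻¹ • x⁻¹ • p := by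
          rw [← mul_smul, show d * w⁻¹ = w⁻¹ * g' by rw [e]; group, mul_smul, key p hp]
        refine (hfixD d hd hd1 _ h1).resolve_left fun e2 => hneo p hap ?_
        rw [← smul_inv_smul w (x⁻¹ • p), e2, (hstab w).mpr (hQN hw)]
      have := (hbd b hab hgb).trans (hbd c hac hgc).symm
      exact hbc (smul_left_cancel _ (smul_left_cancel _ this))
  have huN : u ∉ N := by
    intro huN
    obtain ⟨v, hv, e, he, hue⟩ := hdec u huN
    obtain ⟨⟨d, hd⟩, hd1⟩ := Subgroup.ne_bot_iff_exists_ne_one.mp hDne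
    have hd1' : d ≠ 1 := fun h => hd1 (Subtype.ext h)
    have h1 : v * d * v⁻¹ = d⁻¹ := by
      rw [← huinv d hd, hue]
      calc v * d * v⁻¹ = v * (e * d * e⁻¹) * v⁻¹ := by
            rw [hDab' e he d hd, mul_inv_cancel_right]
        _ = v * e * d * (v * e)⁻¹ := by group
    have h2 : v * (d * v⁻¹ * d⁻¹) ∈ Q ⊓ D := ⟨Q.mul_mem hv
      ((Subgroup.mem_normalizer_iff.mp (hDN hd) _).mp (Q.inv_mem hv)), by
        rw [show v * (d * v⁻¹ * d⁻¹) = v * d * v⁻¹ * d⁻¹ by group, h1]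
        exact D.mul_mem (D.inv_mem hd) (D.inv_mem hd)⟩
    rw [hQD, Subgroup.mem_bot] at h2
    have hv1 : v = 1 := hDQ d hd hd1' v hv (by
      calc d * v = (d * v⁻¹ * d⁻¹)⁻¹ * d := by group
        _ = v * d := by rw [eq_inv_of_mul_eq_one_right h2, inv_inv])
    exact huD (by rw [hue, hv1, one_mul]; exact he)
  obtain ⟨d₀, hd₀, hd₀1⟩ : ∃ d ∈ D, d ≠ 1 := by
    obtain ⟨⟨d, hd⟩, hd1⟩ := Subgroup.ne_bot_iff_exists_ne_one.mp hDne
    exact ⟨d, hd, fun h => hd1 (Subtype.ext h)⟩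
  have hd₀o : d₀ • o = o := (hstab _).mpr (hDN hd₀)
  have hd₀u : d₀ • (u • o) = u • o := by
    have e : d₀ * u = u * d₀⁻¹ := by
      rw [← huinv d₀ hd₀]
      calc d₀ * u = (u * u) * d₀ * u := by rw [hu2, one_mul]
        _ = u * (u * d₀ * u⁻¹) := by rw [hui]; group
    rw [← mul_smul, e, mul_smul, (hstab _).mpr (N.inv_mem (hDN hd₀))]
  have hZ : Cfsg.IsZassenhausGroup G (G ⧸ N) := by
    refine ⟨⟨fun {g g'} hgg => ?_⟩, h2t, h3, ⟨d₀, hd₀1, o, u • o, ?_, hd₀o, hd₀u⟩, ?_⟩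
    · have hall : ∀ p : G ⧸ N, (g'⁻¹ * g) • p = p := fun p => by
        rw [mul_smul, hgg p, inv_smul_smul]
      have hthree : ∃ a b c : G ⧸ N, a ≠ b ∧ b ≠ c ∧ a ≠ c := by
        letI := Fintype.ofFinite (G ⧸ N)
        obtain ⟨a, b, c, h1, h2, h3⟩ := Fintype.two_lt_card_iff.mp
          (by rw [← Nat.card_eq_fintype_card, hΩ]; omega : 2 < Fintype.card (G ⧸ N))
        exact ⟨a, b, c, h1, h3, h2⟩
      obtain ⟨a, b, c, h1, h2, h3'⟩ := hthree
      exact (inv_mul_eq_one.mp (h3 _ a b c h1 h2 h3' (hall a) (hall b) (hall c))).symm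
    · exact fun e => huN ((hstab u).mp e.symm)
    · intro M hM hMt
      refine ⟨o, fun hbot => ?_⟩
      rcases hM.eq_bot_or_eq_top with e | e
      · subst e
        obtain ⟨⟨g, hg⟩, hgo⟩ := hMt.exists_smul_eq o (u • o)
        rw [Subgroup.mem_bot] at hg
        exact huN ((hstab u).mp (show u • o = o by
          rw [← hgo]; show g • o = o; rw [hg, one_smul]))
      · have hmem : (⟨d₀, e ▸ Subgroup.mem_top _⟩ : M) ∈ MulAction.stabilizer M o := hd₀o
        replace hmem := Subgroup.mem_bot.mp ((SetLike.ext_iff.mp hbot _).mp hmem)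
        exact hd₀1 (congrArg Subtype.val hmem)
  rcases Cfsg.Agent.S0731.result hZ o Q (fun v hv => (hstab v).mpr (hQN hv)) (by
      have e : MulAction.stabilizer G o = N := Subgroup.ext fun g => hstab g
      rw [e]; exact Subgroup.normal_in_normalizer) ⟨⟨fun a b => Subtype.ext (hQab a a.2 b b.2)⟩⟩
      hreg with ⟨ht, hs⟩ | ⟨F, iF, iF', hchar, e⟩
  · exfalso
    letI := Fintype.ofFinite (G ⧸ N)
    haveI : MulAction.IsPretransitive G (Fin 3 ↪ G ⧸ N) := ht
    have hne : Nonempty (Fin 3 ↪ G ⧸ N) := Function.Embedding.nonempty_of_card_le (by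
      rw [Fintype.card_fin, ← Nat.card_eq_fintype_card, hΩ]; omega)
    obtain ⟨t⟩ := hne
    have h := MulAction.index_stabilizer_of_transitive (G := G) t
    rw [hs t, Subgroup.index_bot, Nat.card_eq_fintype_card (α := Fin 3 ↪ G ⧸ N),
      Fintype.card_embedding_eq,
      Fintype.card_fin, ← Nat.card_eq_fintype_card, hΩ, hG'] at h
    obtain ⟨j, hj⟩ : ∃ j, q = j + 2 := ⟨q - 2, by omega⟩
    rw [hj] at h
    simp [Nat.descFactorial_succ] at h
    have hmj : m = j + 1 := by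
      rw [mul_comm (j + 1)] at h
      exact Nat.eq_of_mul_eq_mul_left (by positivity) h
    omega
  · exact ⟨F, iF, iF', Nat.odd_iff.mpr (FiniteField.odd_card_of_char_ne_two hchar), e⟩

end CfsgLib.BrauerSuzukiWall
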