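import Mathlib

/-!
The centraliser configuration of the Brauer–Suzuki–Wall theorem: an involution `t` whose
centraliser is `K ∪ sK`, with `K` abelian, inverted by `s`, and a trivial intersection set.
-/

set_option autoImplicit false

namespace CfsgLib.BrauerSuzukiWall

variable {G : Type*} [Group G] {t : G} {K : Subgroup G} {s : G}

theorem orderOf_eq_two_iff' {x : G} : orderOf x = 2 ↔ x * x = 1 ∧ x ≠ 1 :=
  ⟨fun h => ⟨by rw [← sq, ← h, pow_orderOf_eq_one], fun e => by simp [e] at h⟩,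
   fun h => orderOf_eq_prime (by rw [sq, h.1]) h.2⟩

/-- The hypotheses of the abstract Brauer–Suzuki–Wall theorem. -/
structure Data (t : G) (K : Subgroup G) (s : G) : Prop where
  t_ord : orderOf t = 2
  comm : ∀ a ∈ K, ∀ b ∈ K, a * b = b * a
  t_mem : t ∈ K
  s_ord : orderOf s = 2
  s_comm : s * t = t * s
  s_not : s ∉ K
  list : ∀ g, g * t = t * g → g ∈ K ∨ s * g ∈ K
  sq_one : ∀ a ∈ K, a * a = 1 → a = 1 ∨ a = t
  inverts : ∀ a ∈ K, s * a * s⁻¹ = a⁻¹
  ti : ∀ g, g * t ≠ t * g → ∀ a ∈ K, g * a * g⁻¹ ∈ K → a = 1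
  conj : ∀ x, orderOf x = 2 → IsConj t x

variable (hD : Data t K s)
include hD

theorem Data.t_sq : t * t = 1 := (orderOf_eq_two_iff'.mp hD.t_ord).1

theorem Data.t_ne : t ≠ 1 := (orderOf_eq_two_iff'.mp hD.t_ord).2

theorem Data.t_inv : t⁻¹ = t := inv_eq_of_mul_eq_one_right hD.t_sq

theorem Data.s_sq : s * s = 1 := (orderOf_eq_two_iff'.mp hD.s_ord).1

theorem Data.s_inv : s⁻¹ = s := inv_eq_of_mul_eq_one_right hD.s_sq

theorem Data.comm_t {a : G} (ha : a ∈ K) : a * t = t * a := hD.comm a ha t hD.t_mem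

theorem Data.smul_comm_t {a : G} (ha : a ∈ K) : s * a * t = t * (s * a) := by
  rw [mul_assoc, hD.comm_t ha, ← mul_assoc, hD.s_comm, mul_assoc]

theorem Data.comm_of_conj_mem {g a : G} (ha : a ∈ K) (ha1 : a ≠ 1) (h : g * a * g⁻¹ ∈ K) :
    g * t = t * g :=
  by_contra fun hg => ha1 (hD.ti g hg a ha h)

/-- The elements of `sK` invert `K`. -/
theorem Data.conj_smul {a b : G} (ha : a ∈ K) (hb : b ∈ K) :
    s * a * b * (s * a)⁻¹ = b⁻¹ := by
  rw [← hD.inverts b hb]
  have : a * b * a⁻¹ = b := by rw [hD.comm a ha b hb, mul_inv_cancel_right]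
  calc s * a * b * (s * a)⁻¹ = s * (a * b * a⁻¹) * s⁻¹ := by group
    _ = s * b * s⁻¹ := by rw [this]

theorem Data.orderOf_smul {a : G} (ha : a ∈ K) : orderOf (s * a) = 2 := by
  refine orderOf_eq_two_iff'.mpr ⟨?_, fun h => hD.s_not ?_⟩
  · calc s * a * (s * a) = (s * a * s⁻¹) * (s * s) * a := by group
      _ = 1 := by rw [hD.inverts a ha, hD.s_sq]; group
  · rw [eq_inv_of_mul_eq_one_left h]; exact K.inv_mem ha

theorem Data.smul_not_mem {a : G} (ha : a ∈ K) : s * a ∉ K := fun h =>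
  hD.s_not (by have := K.mul_mem h (K.inv_mem ha); rwa [mul_inv_cancel_right] at this)

theorem Data.eq_one_or_t_of_inv {a : G} (ha : a ∈ K) (h : a⁻¹ = a) : a = 1 ∨ a = t :=
  hD.sq_one a ha (by rw [mul_eq_one_iff_inv_eq, h])

/-- Centralisers of elements of `K` other than `1` and `t`. -/
theorem Data.mem_of_comm {g y : G} (hy : y ∈ K) (hy1 : y ≠ 1) (hyt : y ≠ t)
    (h : g * y = y * g) : g ∈ K := by
  have hc : g * y * g⁻¹ = y := by rw [h, mul_inv_cancel_right]
  rcases hD.list g (hD.comm_of_conj_mem hy hy1 (hc.symm ▸ hy)) with hg | hg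
  · exact hg
  · exfalso
    have h1 := hD.conj_smul hg hy
    rw [← mul_assoc, hD.s_sq, one_mul, hc] at h1
    rcases hD.eq_one_or_t_of_inv hy h1.symm with e | e
    exacts [hy1 e, hyt e]

/-- Every element of the centraliser of `t` normalises every subgroup of `K`. -/
theorem Data.conj_mem_subgroup {g : G} (hg : g * t = t * g) {X : Subgroup G} (hX : X ≤ K)
    {x : G} (hx : x ∈ X) : g * x * g⁻¹ ∈ X := by
  rcases hD.list g hg with h | h
  · rw [hD.comm g h x (hX hx), mul_inv_cancel_right]; exact hx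
  · have h1 := hD.conj_smul h (hX hx)
    rw [← mul_assoc, hD.s_sq, one_mul] at h1
    rw [h1]; exact X.inv_mem hx

/-- The normaliser of a non-trivial subgroup of `K` is the centraliser of `t`. -/
theorem Data.normalizer_eq {X : Subgroup G} (hX : X ≤ K) (hne : X ≠ ⊥) :
    Subgroup.normalizer (X : Set G) = Subgroup.centralizer ({t} : Set G) := by
  refine le_antisymm (fun g hg => ?_) (fun g hg => ?_)
  · obtain ⟨x, hx, hx1⟩ := (Subgroup.ne_bot_iff_exists_ne_one.mp hne |> fun ⟨x, hx⟩ =>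
      (⟨x.1, x.2, fun e => hx (Subtype.ext e)⟩ : ∃ x, x ∈ X ∧ x ≠ 1))
    exact Subgroup.mem_centralizer_singleton_iff.mpr
      (hD.comm_of_conj_mem (hX hx) hx1 (hX ((Subgroup.mem_normalizer_iff.mp hg x).mp hx)))
  · have hc := Subgroup.mem_centralizer_singleton_iff.mp hg
    refine Subgroup.mem_normalizer_iff.mpr fun x => ⟨fun hx => hD.conj_mem_subgroup hc hX hx, fun hx => ?_⟩
    have hc' : g⁻¹ * t = t * g⁻¹ := (Commute.inv_left (show Commute g t from hc)).eq
    have := hD.conj_mem_subgroup hc' hX hx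
    rwa [show g⁻¹ * (g * x * g⁻¹) * g⁻¹⁻¹ = x by group] at this

theorem Data.centralizer_eq_sup :
    Subgroup.centralizer ({t} : Set G) = K ⊔ Subgroup.zpowers s := by
  refine le_antisymm (fun g hg => ?_) (sup_le (fun a ha => ?_) ?_)
  · rcases hD.list g (Subgroup.mem_centralizer_singleton_iff.mp hg) with h | h
    · exact Subgroup.mem_sup_left h
    · have := Subgroup.mul_mem _ (Subgroup.mem_sup_right (S := K) (Subgroup.mem_zpowers s))
        (Subgroup.mem_sup_left (T := Subgroup.zpowers s) h)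
      rwa [← mul_assoc, hD.s_sq, one_mul] at this
  · exact Subgroup.mem_centralizer_singleton_iff.mpr (hD.comm_t ha)
  · exact Subgroup.zpowers_le.mpr (Subgroup.mem_centralizer_singleton_iff.mpr hD.s_comm)

/-- The map from two copies of `K` onto the centraliser of `t`. -/
def Data.toC : K ⊕ K → Subgroup.centralizer ({t} : Set G) :=
  Sum.elim
    (fun a => ⟨a.1, Subgroup.mem_centralizer_singleton_iff.mpr (hD.comm_t a.2)⟩)
    (fun a => ⟨s * a.1, Subgroup.mem_centralizer_singleton_iff.mpr (hD.smul_comm_t a.2)⟩)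

theorem Data.toC_bijective : Function.Bijective hD.toC := by
  refine ⟨?_, ?_⟩
  · rintro (a | a) (b | b) h <;>
      simp only [Data.toC, Sum.elim_inl, Sum.elim_inr, Subtype.mk.injEq] at h
    · exact congrArg Sum.inl (Subtype.ext h)
    · exact absurd (h ▸ a.2) (hD.smul_not_mem b.2)
    · exact absurd (h ▸ b.2) (hD.smul_not_mem a.2)
    · exact congrArg Sum.inr (Subtype.ext (mul_left_cancel h))
  · rintro ⟨g, hg⟩
    rcases hD.list g (Subgroup.mem_centralizer_singleton_iff.mp hg) with h | h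
    · exact ⟨.inl ⟨g, h⟩, rfl⟩
    · exact ⟨.inr ⟨s * g, h⟩, Subtype.ext (by simp [Data.toC, ← mul_assoc, hD.s_sq])⟩

/-- `C(t)` is two copies of `K`. -/
theorem Data.card_C [Finite G] :
    Nat.card (Subgroup.centralizer ({t} : Set G)) = 2 * Nat.card K := by
  rw [two_mul, ← Nat.card_sum]
  exact (Nat.card_eq_of_bijective hD.toC hD.toC_bijective).symm

theorem Data.even_card : 2 ∣ Nat.card K := by
  have h := orderOf_dvd_natCard (⟨t, hD.t_mem⟩ : K)
  rwa [Subgroup.orderOf_mk, hD.t_ord] at h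

/-- The involutions `u` with `u y` an involution, for `y ∈ K`, `y ≠ 1`. -/
theorem Data.card_pairs [Finite G] {y : G} (hy : y ∈ K) (hy1 : y ≠ 1) :
    Nat.card {u : G // orderOf u = 2 ∧ orderOf (u * y) = 2} = Nat.card K := by
  refine (Nat.card_eq_of_bijective
    (fun a : K => (⟨s * a.1, hD.orderOf_smul a.2, by
      rw [mul_assoc]; exact hD.orderOf_smul (K.mul_mem a.2 hy)⟩ :
      {u : G // orderOf u = 2 ∧ orderOf (u * y) = 2})) ⟨?_, ?_⟩).symm
  · intro a b h
    exact Subtype.ext (mul_left_cancel (congrArg Subtype.val h))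
  · rintro ⟨u, hu, huy⟩
    obtain ⟨hu2, hu1⟩ := orderOf_eq_two_iff'.mp hu
    have hinv : u * y * u⁻¹ = y⁻¹ := by
      have h := (orderOf_eq_two_iff'.mp huy).1
      rw [inv_eq_of_mul_eq_one_right hu2]
      exact eq_inv_of_mul_eq_one_left (by rw [← h]; group)
    rcases hD.list u (hD.comm_of_conj_mem hy hy1 (by rw [hinv]; exact K.inv_mem hy)) with h | h
    · exfalso
      rcases hD.sq_one u h hu2 with e | e
      · exact hu1 e
      · subst e
        rw [← hD.comm_t hy, mul_inv_cancel_right] at hinv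
        rcases hD.eq_one_or_t_of_inv hy hinv.symm with e | e
        · exact hy1 e
        · rw [e] at huy
          rw [hD.t_sq, orderOf_one] at huy
          exact absurd huy (by norm_num)
    · exact ⟨⟨s * u, h⟩, Subtype.ext (by simp [← mul_assoc, hD.s_sq])⟩

open scoped Classical in
/-- The conjugating elements between two elements of `K`. -/
theorem Data.card_conjugators [Finite G] {y y' : G} (hy : y ∈ K) (hy1 : y ≠ 1) (hy' : y' ∈ K) :
    Nat.card {x : G // x * y * x⁻¹ = y'} =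
      (if y' = y then Nat.card K else 0) + (if y' = y⁻¹ then Nat.card K else 0) := by
  have h1 : ∀ a ∈ K, a * y * a⁻¹ = y := fun a ha => by
    rw [hD.comm a ha y hy, mul_inv_cancel_right]
  have e : {x : G // x * y * x⁻¹ = y'} ≃ {a : K // y' = y} ⊕ {a : K // y' = y⁻¹} := by
    refine (Equiv.ofBijective (Sum.elim
      (fun a : {a : K // y' = y} => (⟨a.1.1, by rw [h1 _ a.1.2, a.2]⟩ : {x : G // x * y * x⁻¹ = y'}))
      (fun a : {a : K // y' = y⁻¹} => (⟨s * a.1.1, by rw [hD.conj_smul a.1.2 hy, a.2]⟩ :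
        {x : G // x * y * x⁻¹ = y'}))) ⟨?_, ?_⟩).symm
    · rintro (a | a) (b | b) h <;> simp only [Sum.elim_inl, Sum.elim_inr, Subtype.mk.injEq] at h
      · exact congrArg Sum.inl (Subtype.ext (Subtype.ext h))
      · exact absurd (h ▸ a.1.2) (hD.smul_not_mem b.1.2)
      · exact absurd (h ▸ b.1.2) (hD.smul_not_mem a.1.2)
      · exact congrArg Sum.inr (Subtype.ext (Subtype.ext (mul_left_cancel h)))
    · rintro ⟨x, hx⟩
      rcases hD.list x (hD.comm_of_conj_mem hy hy1 (hx.symm ▸ hy')) with h | h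
      · exact ⟨.inl ⟨⟨x, h⟩, by rw [← hx, h1 x h]⟩, rfl⟩
      · refine ⟨.inr ⟨⟨s * x, h⟩, ?_⟩, Subtype.ext (by simp [← mul_assoc, hD.s_sq])⟩
        have h2 := hD.conj_smul h hy
        rw [← mul_assoc, hD.s_sq, one_mul] at h2
        rw [← hx, h2]
  rw [Nat.card_congr e, Nat.card_sum]
  congr 1
  all_goals
    split_ifs with h
    · exact Nat.card_congr (Equiv.subtypeUnivEquiv fun _ => h)
    · haveI := Subtype.isEmpty_of_false (α := K) (fun _ => h)
      exact Nat.card_of_isEmpty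

end CfsgLib.BrauerSuzukiWall
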