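import Cfsg.Agent.BrauerSuzukiWall.SplitPlus
import Cfsg.Agent.Involutions.SelfCentralizingFour
import Cfsg.Agent.S3277
import Mathlib

/-!
The Brauer–Suzuki–Wall configuration with `|K| = 2`: `A₄` and `A₅`.
-/

set_option autoImplicit false

namespace CfsgLib.BrauerSuzukiWall

open Cfsg

variable {G : Type*} [Group G] [Finite G] {t : G} {K : Subgroup G} {s : G}

/-- The conclusion, from a subgroup `Q` of order five or three. -/
theorem Data.conclusion_two (hD : Data t K s) (hk : Nat.card K = 2) :
    ∃ Q D : Subgroup G, Conclusion Q D := by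
  haveI : Fact (Nat.Prime 2) := ⟨Nat.prime_two⟩
  set C := Subgroup.centralizer ({t} : Set G) with hC
  have hC4 : Nat.card C = 4 := by rw [hC, hD.card_C, hk]
  have hKlist : ∀ a ∈ K, a = 1 ∨ a = t := fun a ha => hD.sq_one a ha (by
    have h := pow_card_eq_one' (x := (⟨a, ha⟩ : K))
    rw [hk] at h
    simpa [sq] using congrArg Subtype.val h)
  have hCe : ∀ c ∈ C, c ^ 2 = 1 := by
    intro c hc
    rcases hD.list c (Subgroup.mem_centralizer_singleton_iff.mp hc) with h | h
    · rcases hKlist c h with rfl | rfl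
      · exact one_pow 2
      · rw [sq, hD.t_sq]
    · have := hD.orderOf_smul h
      rw [← mul_assoc, hD.s_sq, one_mul] at this
      rw [← this, pow_orderOf_eq_one]
  have hst : s ≠ t := fun e => hD.s_not (e ▸ hD.t_mem)
  have hCp : IsPGroup 2 C := IsPGroup.of_card (n := 2) (by rw [hC4]; rfl)
  -- the Sylow order is four
  have h8 : ¬ 8 ∣ Nat.card G := by
    intro h8
    obtain ⟨N, hN, hNi, htN⟩ := CfsgLib.SelfCentralizingFour.exists_normal_index_two hD.t_ord C
      le_rfl hC4 (fun Q hQ _ => hC4 ▸ Subgroup.card_le_of_le hQ) h8 <;> skip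
    have h2 : 2 ∣ Nat.card N := by
      have := N.card_mul_index
      rw [hNi] at this
      omega
    obtain ⟨v, hv⟩ := exists_prime_orderOf_dvd_card' (G := N) 2 h2
    obtain ⟨c, hc⟩ := isConj_iff.mp (hD.conj v (by rw [Subgroup.orderOf_coe]; exact hv))
    refine htN ?_
    rw [show t = c⁻¹ * (v : G) * c⁻¹⁻¹ by rw [← hc]; group]
    exact hN.conj_mem _ v.2 _
  have hPcard : ∀ P : Sylow 2 G, Nat.card (P : Subgroup G) = 4 := by
    intro P
    have h4 : 2 ^ 2 ∣ Nat.card G := by
      rw [show (2 : ℕ) ^ 2 = Nat.card C by rw [hC4]; rfl]; exact C.card_subgroup_dvd_card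
    have hf : (Nat.card G).factorization 2 = 2 := by
      have h1 := (Nat.prime_two.pow_dvd_iff_le_factorization Nat.card_pos.ne').mp h4
      have h2 : ¬ 3 ≤ (Nat.card G).factorization 2 := fun h => h8 (by
        exact (Nat.prime_two.pow_dvd_iff_le_factorization Nat.card_pos.ne').mpr h)
      omega
    rw [P.card_eq_multiplicity, hf]; rfl
  have hnot5 : ∀ g : G, g ≠ 1 → Odd (orderOf g) →
      Odd (Nat.card (Subgroup.centralizer ({g} : Set G))) := by
    intro g hg hodd
    rw [Nat.odd_iff]
    by_contra h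
    obtain ⟨v, hv⟩ := exists_prime_orderOf_dvd_card' (G := Subgroup.centralizer ({g} : Set G)) 2
      (by omega)
    have hv' : orderOf (v : G) = 2 := by rw [Subgroup.orderOf_coe, hv]
    obtain ⟨c, hc⟩ := isConj_iff.mp (hD.conj v hv')
    have h1 := Subgroup.mem_centralizer_singleton_iff.mp v.2
    have h2 : c⁻¹ * g * c ∈ C := by
      rw [hC, Subgroup.mem_centralizer_singleton_iff]
      calc c⁻¹ * g * c * t = c⁻¹ * (g * (c * t * c⁻¹)) * c := by group
        _ = c⁻¹ * (c * t * c⁻¹ * g) * c := by rw [hc, h1]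
        _ = t * (c⁻¹ * g * c) := by group
    have h3 : orderOf g ∣ 2 := by
      rw [← orderOf_conj_eq c⁻¹ g, show c⁻¹ * g * c⁻¹⁻¹ = c⁻¹ * g * c by rw [inv_inv]]
      exact orderOf_dvd_of_pow_eq_one (hCe _ h2)
    rcases (Nat.dvd_prime Nat.prime_two).mp h3 with e | e
    · exact hg (orderOf_eq_one_iff.mp e)
    · rw [e] at hodd; exact absurd hodd (by decide)
  by_cases hV : C.Normal
  · -- order twelve
    have hall : ∀ v : G, orderOf v = 2 → v ∈ C := fun v hv => by
      obtain ⟨c, rfl⟩ := isConj_iff.mp (hD.conj v hv)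
      exact hV.conj_mem t (Subgroup.mem_centralizer_singleton_iff.mpr rfl) c
    have hG : Nat.card G = 12 := by
      have h1 := CfsgLib.Chars.card_isConj_mul_card_centralizer t
      rw [← hC, hC4] at h1
      have h2 : Nat.card {x : G // IsConj t x} = 3 := by
        classical
        letI := Fintype.ofFinite C
        rw [Nat.card_congr (β := {c : C // c ≠ 1})
          { toFun := fun x => ⟨⟨x.1, hall _ (by
              obtain ⟨c, hc⟩ := isConj_iff.mp x.2
              rw [← hc, orderOf_conj_eq, hD.t_ord])⟩, fun e => by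
              have e' : (x.1 : G) = 1 := congrArg Subtype.val e
              exact hD.t_ne (isConj_one_left.mp (e' ▸ x.2))⟩
            invFun := fun c => ⟨c.1.1, hD.conj _ (orderOf_eq_two_iff'.mpr
              ⟨by rw [← sq]; exact hCe _ c.1.2, fun e => c.2 (Subtype.ext e)⟩)⟩
            left_inv := fun x => rfl
            right_inv := fun c => rfl }]
        rw [Nat.card_eq_fintype_card, Fintype.card_subtype_compl, Fintype.card_subtype_eq,
          ← Nat.card_eq_fintype_card, hC4]
      rw [h2] at h1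
      exact h1.symm
    haveI : Fact (Nat.Prime 3) := ⟨Nat.prime_three⟩
    obtain ⟨g, hg⟩ := exists_prime_orderOf_dvd_card' (G := G) 3 (by rw [hG]; norm_num)
    have hg1 : g ≠ 1 := fun e => by rw [e, orderOf_one] at hg; omega
    have hodd3 : ∀ H : Subgroup G, Odd (Nat.card H) → Nat.card H ≤ 3 := by
      intro H hH
      have h := H.card_subgroup_dvd_card
      rw [hG] at h
      have h12 := Nat.le_of_dvd (by norm_num) h
      generalize Nat.card H = n at *
      interval_cases n <;> first | omega | exact absurd hH (by decide) | norm_num at h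
    set Q := Subgroup.zpowers g with hQ
    have hQ3 : Nat.card Q = 3 := by rw [hQ, Nat.card_zpowers, hg]
    refine ⟨Q, ⊥, ?_, fun x hx hx1 => ?_, inferInstance, ?_, inf_bot_eq _, ?_, ?_⟩
    · rw [hQ3, hG]
    · have hxo : orderOf x = 3 := by
        have h := Subgroup.orderOf_dvd_natCard _ hx
        rw [hQ3] at h
        rcases (Nat.dvd_prime Nat.prime_three).mp h with e | e
        · exact absurd (orderOf_eq_one_iff.mp e) hx1
        · exact e
      have hle : Q ≤ Subgroup.centralizer ({x} : Set G) := fun y hy => by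
        rw [Subgroup.mem_centralizer_singleton_iff]
        obtain ⟨i, rfl⟩ := Subgroup.mem_zpowers_iff.mp hy
        obtain ⟨j, rfl⟩ := Subgroup.mem_zpowers_iff.mp hx
        exact ((Commute.refl g).zpow_zpow i j).eq
      refine (Subgroup.eq_of_le_of_card_ge hle ?_).symm
      rw [hQ3]
      exact hodd3 _ (hnot5 x hx1 (by rw [hxo]; decide))
    · rw [Subgroup.card_bot, hQ3]
    · rw [sup_bot_eq]
      refine (Subgroup.eq_of_le_of_card_ge Subgroup.le_normalizer ?_).symm
      rw [hQ3]
      refine hodd3 _ ?_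
      rw [Nat.odd_iff]
      by_contra h
      obtain ⟨v, hv⟩ := exists_prime_orderOf_dvd_card'
        (G := Subgroup.normalizer (Q : Set G)) 2 (by omega)
      have hv' : orderOf (v : G) = 2 := by rw [Subgroup.orderOf_coe, hv]
      have h1 : (v : G) * g * (v : G)⁻¹ * g⁻¹ ∈ Q :=
        Q.mul_mem ((Subgroup.mem_normalizer_iff.mp v.2 g).mp (Subgroup.mem_zpowers g))
          (Q.inv_mem (Subgroup.mem_zpowers g))
      have h2 : (v : G) * g * (v : G)⁻¹ * g⁻¹ ∈ C := by
        rw [show (v : G) * g * (v : G)⁻¹ * g⁻¹ = v * (g * (v : G)⁻¹ * g⁻¹) by group]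
        exact C.mul_mem (hall _ hv') (hV.conj_mem _ (C.inv_mem (hall _ hv')) g)
      have h3 : (v : G) * g * (v : G)⁻¹ * g⁻¹ = 1 := orderOf_eq_one_iff.mp
        (Nat.eq_one_of_dvd_coprimes (by norm_num : Nat.Coprime 3 4)
          (hQ3 ▸ Subgroup.orderOf_dvd_natCard _ h1) (hC4 ▸ Subgroup.orderOf_dvd_natCard _ h2))
      have h4 : (v : G) ∈ Subgroup.centralizer ({g} : Set G) :=
        Subgroup.mem_centralizer_singleton_iff.mpr (mul_inv_eq_iff_eq_mul.mp (mul_inv_eq_one.mp h3))
      have h5 := (hnot5 g hg1 (by rw [hg]; decide)).of_dvd_nat (Subgroup.orderOf_dvd_natCard _ h4)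
      rw [hv'] at h5
      exact absurd h5 (by decide)
    · intro X hX hX1
      exact absurd (le_bot_iff.mp hX) hX1
  -- order sixty
  have hA5 : Nonempty (G ≃* ↥(alternatingGroup (Fin 5))) := by
    refine Cfsg.Agent.S3277.result t hD.t_ord hC4 hCe ?_ ?_
    · rintro ⟨P, M, hM, hMP⟩
      haveI := hM
      have hcard : Nat.card (G ⧸ M) = 2 ^ 2 := by
        rw [← Subgroup.index, hMP.symm.index_eq_card, hPcard]
        rfl
      haveI : Fact (Nat.Prime 2) := ⟨Nat.prime_two⟩
      haveI := IsPGroup.isMulCommutative_of_card_eq_prime_sq hcard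
      obtain ⟨g, hg⟩ := isConj_iff.mp (hD.conj s hD.s_ord)
      have h1 : (QuotientGroup.mk s : G ⧸ M) = QuotientGroup.mk t := by
        rw [← hg, QuotientGroup.mk_mul, QuotientGroup.mk_mul, QuotientGroup.mk_inv,
          IsMulCommutative.is_comm.comm (g : G ⧸ M) (t : G ⧸ M), mul_inv_cancel_right]
      have h2 : t * s ∈ M := by
        have := QuotientGroup.eq.mp h1.symm
        rwa [hD.t_inv] at this
      have h3 : orderOf (t * s) = 2 := by
        refine orderOf_eq_two_iff'.mpr ⟨?_, fun e => hst ?_⟩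
        · calc t * s * (t * s) = t * (s * t) * s := by group
            _ = (t * t) * (s * s) := by rw [hD.s_comm]; group
            _ = 1 := by rw [hD.t_sq, hD.s_sq, one_mul]
        · rw [eq_inv_of_mul_eq_one_right e, hD.t_inv]
      have h4 : Nat.Coprime 2 (Nat.card M) := by
        rw [Nat.prime_two.coprime_iff_not_dvd]
        intro h
        refine h8 ?_
        rw [← hMP.card_mul, hPcard, show (8 : ℕ) = 2 * 4 from rfl]
        exact mul_dvd_mul_right h 4
      have h5 := Subgroup.orderOf_dvd_natCard _ h2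
      rw [h3] at h5
      exact absurd (Nat.eq_one_of_dvd_coprimes h4 dvd_rfl h5) (by norm_num)
    · intro E hE hel
      have hinv : ∀ n, Nat.card E = n → 2 ∣ n → ∀ v : G, orderOf v = 2 → v ∈ E := by
        intro n hn h2 v hv
        obtain ⟨w, hw⟩ := exists_prime_orderOf_dvd_card' (G := E) 2 (hn ▸ h2)
        have hw' : orderOf (w : G) = 2 := by rw [Subgroup.orderOf_coe, hw]
        obtain ⟨c, hc⟩ := isConj_iff.mp ((hD.conj _ hw').symm.trans (hD.conj v hv))
        exact hc ▸ hE.conj_mem _ w.2 c
      refine ⟨fun h => ?_, fun h => hV ?_⟩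
      · have hst' : (⟨s, hinv 2 h dvd_rfl s hD.s_ord⟩ : E) ≠ ⟨t, hinv 2 h dvd_rfl t hD.t_ord⟩ :=
          fun e => hst (congrArg Subtype.val e)
        haveI := Fintype.ofFinite E
        have h3 : ({1, ⟨s, hinv 2 h dvd_rfl s hD.s_ord⟩, ⟨t, hinv 2 h dvd_rfl t hD.t_ord⟩} :
            Set E).ncard = 3 := by
          rw [Set.ncard_eq_three]
          exact ⟨_, _, _, fun e => (orderOf_eq_two_iff'.mp hD.s_ord).2 (congrArg Subtype.val e).symm,
            fun e => hD.t_ne (congrArg Subtype.val e).symm, hst', rfl⟩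
        have := Set.ncard_le_card ({1, ⟨s, hinv 2 h dvd_rfl s hD.s_ord⟩,
          ⟨t, hinv 2 h dvd_rfl t hD.t_ord⟩} : Set E)
        omega
      · have hEC : E ≤ C := fun e he => Subgroup.mem_centralizer_singleton_iff.mpr
          (congrArg Subtype.val (hel.1.is_comm.comm (⟨e, he⟩ : E)
            ⟨t, hinv 4 h (by norm_num) t hD.t_ord⟩))
        rwa [← Subgroup.eq_of_le_of_card_ge hEC (by rw [hC4, h])]
  obtain ⟨φ⟩ := hA5
  haveI : Nontrivial G := ⟨⟨t, 1, hD.t_ne⟩⟩
  haveI : IsSimpleGroup (alternatingGroup (Fin 5)) := alternatingGroup.isSimpleGroup (by simp)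
  haveI : IsSimpleGroup G := φ.isSimpleGroup
  have hG : Nat.card G = 60 := by
    rw [Nat.card_congr φ.toEquiv, Nat.card_eq_fintype_card, card_alternatingGroup, Fintype.card_fin]
    rfl
  haveI : Fact (Nat.Prime 5) := ⟨by norm_num⟩
  obtain ⟨P⟩ : Nonempty (Sylow 5 G) := inferInstance
  have hP5 : Nat.card (P : Subgroup G) = 5 := by
    have hf : (60 : ℕ).factorization 5 = 1 := by
      rw [show (60 : ℕ) = 5 ^ 1 * 12 by norm_num,
        Nat.factorization_mul (by norm_num) (by norm_num), Finsupp.add_apply,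
        Nat.Prime.factorization_pow (by norm_num), Finsupp.single_eq_same,
        Nat.factorization_eq_zero_of_not_dvd (by norm_num : ¬ 5 ∣ 12)]
    rw [P.card_eq_multiplicity, hG, hf, pow_one]
  have hN10 : Nat.card (Subgroup.normalizer ((P : Subgroup G) : Set G)) = 10 := by
    have hn := card_sylow_modEq_one 5 G
    have hdvd := P.card_dvd_index
    have hPi : (P : Subgroup G).index = 12 := by
      have h := (P : Subgroup G).card_mul_index
      rw [hP5, hG] at h
      omega
    rw [hPi] at hdvd
    have hidx : Nat.card (Sylow 5 G) = (Subgroup.normalizer ((P : Subgroup G) : Set G)).index :=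
      P.card_eq_index_normalizer
    have hne : Nat.card (Sylow 5 G) ≠ 1 := by
      intro h1
      rw [h1] at hidx
      have htop := Subgroup.index_eq_one.mp hidx.symm
      rcases (Subgroup.normalizer_eq_top_iff.mp htop).eq_bot_or_eq_top with e | e
      · rw [e, Subgroup.card_bot] at hP5; omega
      · rw [e, Subgroup.card_top, hG] at hP5; omega
    have h6 : Nat.card (Sylow 5 G) = 6 := by
      have h12 := Nat.le_of_dvd (by norm_num) hdvd
      unfold Nat.ModEq at hn
      generalize Nat.card (Sylow 5 G) = n at *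
      interval_cases n <;> first | omega | norm_num at hdvd
    rw [h6] at hidx
    have h := (Subgroup.normalizer ((P : Subgroup G) : Set G)).card_mul_index
    rw [← hidx, hG] at h
    omega
  have hord : ∀ x ∈ (P : Subgroup G), x ≠ 1 → orderOf x = 5 := by
    intro x hx hx1
    have h := Subgroup.orderOf_dvd_natCard _ hx
    rw [hP5] at h
    rcases (Nat.dvd_prime (by norm_num)).mp h with e | e
    · exact absurd (orderOf_eq_one_iff.mp e) hx1
    · exact e
  have hzp : ∀ x ∈ (P : Subgroup G), x ≠ 1 → Subgroup.zpowers x = (P : Subgroup G) := fun x hx hx1 =>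
    Subgroup.eq_of_le_of_card_ge (Subgroup.zpowers_le.mpr hx) (by
      rw [Nat.card_zpowers, hord x hx hx1, hP5])
  have hcent : ∀ x ∈ (P : Subgroup G), x ≠ 1 →
      Subgroup.centralizer ({x} : Set G) = (P : Subgroup G) := by
    intro x hx hx1
    have hle : Subgroup.centralizer ({x} : Set G) ≤ Subgroup.normalizer ((P : Subgroup G) : Set G) := by
      intro y hy
      rw [← hzp x hx hx1]
      refine Subgroup.mem_normalizer_iff.mpr fun z => ?_
      have h := Subgroup.mem_centralizer_singleton_iff.mp hy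
      have hxc : Commute y x := h
      constructor <;> intro hz <;> obtain ⟨i, hi⟩ := Subgroup.mem_zpowers_iff.mp hz
      · refine Subgroup.mem_zpowers_iff.mpr ⟨i, ?_⟩
        rw [← hi, (hxc.zpow_right i).eq, mul_inv_cancel_right]
      · refine Subgroup.mem_zpowers_iff.mpr ⟨i, ?_⟩
        rw [hi]
        have := (hxc.zpow_right i).eq
        rw [hi] at this
        calc y * z * y⁻¹ = y⁻¹ * (y * (y * z * y⁻¹)) := by group
          _ = y⁻¹ * (y * z * y⁻¹ * y) := by rw [this]
          _ = z := by group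
    have hPC : (P : Subgroup G) ≤ Subgroup.centralizer ({x} : Set G) := fun y hy => by
      rw [← hzp x hx hx1] at hy
      obtain ⟨i, rfl⟩ := Subgroup.mem_zpowers_iff.mp hy
      exact Subgroup.mem_centralizer_singleton_iff.mpr ((Commute.refl x).zpow_left i).eq
    refine (Subgroup.eq_of_le_of_card_ge hPC ?_).symm
    have h := Subgroup.card_dvd_of_le hle
    have hodd := hnot5 x hx1 (by rw [hord x hx hx1]; decide)
    rw [hN10] at h
    rw [hP5]
    have h10 := Nat.le_of_dvd (by norm_num) h
    generalize Nat.card (Subgroup.centralizer ({x} : Set G)) = n at *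
    interval_cases n <;> first | omega | exact absurd hodd (by decide) | norm_num at h
  obtain ⟨v, hv⟩ := exists_prime_orderOf_dvd_card'
    (G := Subgroup.normalizer ((P : Subgroup G) : Set G)) 2 (by rw [hN10]; norm_num)
  have hv' : orderOf (v : G) = 2 := by rw [Subgroup.orderOf_coe, hv]
  set D := Subgroup.zpowers (v : G) with hDdef
  have hD2 : Nat.card D = 2 := by rw [hDdef, Nat.card_zpowers, hv']
  have hcap : (P : Subgroup G) ⊓ D = ⊥ := by
    rw [Subgroup.eq_bot_iff_forall]
    intro x hx
    exact orderOf_eq_one_iff.mp (Nat.eq_one_of_dvd_coprimes (by norm_num : Nat.Coprime 5 2)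
      (hP5 ▸ Subgroup.orderOf_dvd_natCard _ hx.1) (hD2 ▸ Subgroup.orderOf_dvd_natCard _ hx.2))
  refine ⟨(P : Subgroup G), D, ?_, hcent, ?_, ?_, hcap, ?_, ?_⟩
  · rw [hP5, hG]
  · exact ⟨⟨fun x y => Subtype.ext (congrArg Subtype.val
      (IsCyclic.commGroup.mul_comm x y) : (x : G) * y = y * x)⟩⟩
  · rw [hD2, hP5]
  · refine (Subgroup.eq_of_le_of_card_ge
      (sup_le Subgroup.le_normalizer (Subgroup.zpowers_le.mpr v.2)) ?_).symm
    rw [hN10]
    have h5 := Subgroup.card_dvd_of_le (le_sup_left : (P : Subgroup G) ≤ (P : Subgroup G) ⊔ D)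
    have h2 := Subgroup.card_dvd_of_le (le_sup_right : D ≤ (P : Subgroup G) ⊔ D)
    rw [hP5] at h5
    rw [hD2] at h2
    have h10 := (Nat.Coprime.mul_dvd_of_dvd_of_dvd (by norm_num : Nat.Coprime 5 2) h5 h2)
    exact Nat.le_of_dvd Nat.card_pos h10
  · intro X hX hX1
    have hXD : X = D := by
      refine Subgroup.eq_of_le_of_card_ge hX ?_
      rw [hD2]
      exact (Subgroup.one_lt_card_iff_ne_bot X).mpr hX1
    subst hXD
    refine ⟨rfl, ?_⟩
    have hDlist : ∀ d ∈ D, d = 1 ∨ d = (v : G) := by
      intro d hd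
      obtain ⟨i, rfl⟩ := Subgroup.mem_zpowers_iff.mp hd
      have hv2 : (v : G) ^ (2 : ℤ) = 1 := by
        rw [show (2 : ℤ) = ((2 : ℕ) : ℤ) from rfl, zpow_natCast, ← hv', pow_orderOf_eq_one]
      rcases Int.even_or_odd' i with ⟨j, rfl | rfl⟩
      · left; rw [zpow_mul, hv2, one_zpow]
      · right; rw [zpow_add, zpow_mul, hv2, one_zpow, zpow_one, one_mul]
    obtain ⟨c, hc⟩ := isConj_iff.mp (hD.conj _ hv')
    have hNC : Subgroup.normalizer (D : Set G) = Subgroup.centralizer ({(v : G)} : Set G) := by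
      refine le_antisymm (fun g hg => ?_) (fun g hg => ?_)
      · have hmem := (Subgroup.mem_normalizer_iff.mp hg (v : G)).mp (Subgroup.mem_zpowers _)
        rcases hDlist _ hmem with e | e
        · exact absurd (conj_eq_one_iff.mp e) (orderOf_eq_two_iff'.mp hv').2
        · exact Subgroup.mem_centralizer_singleton_iff.mpr (mul_inv_eq_iff_eq_mul.mp e)
      · refine Subgroup.mem_normalizer_iff.mpr fun x => ?_
        have hg' := Subgroup.mem_centralizer_singleton_iff.mp hg
        constructor <;> intro hx <;> rcases hDlist _ hx with e | e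
        · rw [e]; simpa using D.one_mem
        · rw [e, hg', mul_inv_cancel_right]; exact Subgroup.mem_zpowers _
        · rw [conj_eq_one_iff.mp e]; exact D.one_mem
        · rw [show x = g⁻¹ * (g * x * g⁻¹) * g by group, e,
            show g⁻¹ * (v : G) * g = (v : G) by rw [mul_assoc, ← hg', inv_mul_cancel_left]]
          exact Subgroup.mem_zpowers _
    have hconjC : ∀ x ∈ C, c * x * c⁻¹ ∈ Subgroup.centralizer ({(v : G)} : Set G) := by
      intro x hx
      rw [Subgroup.mem_centralizer_singleton_iff, ← hc]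
      have h := Subgroup.mem_centralizer_singleton_iff.mp hx
      calc c * x * c⁻¹ * (c * t * c⁻¹) = c * (x * t) * c⁻¹ := by group
        _ = c * (t * x) * c⁻¹ := by rw [h]
        _ = c * t * c⁻¹ * (c * x * c⁻¹) := by group
    have hwD : c * s * c⁻¹ ∉ D := fun hm => by
      rcases hDlist _ hm with e | e
      · exact (orderOf_eq_two_iff'.mp hD.s_ord).2 (conj_eq_one_iff.mp e)
      · rw [← hc] at e
        exact hst (mul_left_cancel (mul_right_cancel e))
    have hw : c * s * c⁻¹ ∈ Subgroup.centralizer ({(v : G)} : Set G) :=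
      hconjC s (Subgroup.mem_centralizer_singleton_iff.mpr hD.s_comm)
    refine ⟨c * s * c⁻¹, by rw [orderOf_conj_eq, hD.s_ord], hwD, fun d hd => ?_, ?_⟩
    · rcases hDlist d hd with e | e <;> rw [e]
      · simp
      · rw [Subgroup.mem_centralizer_singleton_iff.mp hw, mul_inv_cancel_right,
          inv_eq_of_mul_eq_one_right (orderOf_eq_two_iff'.mp hv').1]
    · rw [hNC]
      refine (Subgroup.eq_of_le_of_card_ge (sup_le ?_ (Subgroup.zpowers_le.mpr hw)) ?_).symm
      · exact Subgroup.zpowers_le.mpr (Subgroup.mem_centralizer_singleton_iff.mpr rfl)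
      · have hcardC : Nat.card (Subgroup.centralizer ({(v : G)} : Set G)) = 4 := by
          have h1 := CfsgLib.Chars.card_isConj_mul_card_centralizer (v : G)
          have h2 := CfsgLib.Chars.card_isConj_mul_card_centralizer t
          rw [← hC, hC4] at h2
          have hcc : Nat.card {x : G // IsConj (v : G) x} = Nat.card {x : G // IsConj t x} :=
            Nat.card_congr (Equiv.subtypeEquivRight fun x =>
              ⟨fun h => (hD.conj _ hv').trans h, fun h => (hD.conj _ hv').symm.trans h⟩)
          rw [hcc, ← h2] at h1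
          haveI : Nonempty {x : G // IsConj t x} := ⟨⟨t, IsConj.refl t⟩⟩
          exact Nat.eq_of_mul_eq_mul_left Nat.card_pos h1
        have hle : D ≤ D ⊔ Subgroup.zpowers (c * s * c⁻¹) := le_sup_left
        have h := Subgroup.card_dvd_of_le hle
        have hne : Nat.card (D ⊔ Subgroup.zpowers (c * s * c⁻¹) : Subgroup G) ≠ 2 := fun e =>
          hwD (by
            rw [Subgroup.eq_of_le_of_card_ge hle (by rw [hD2, e])]
            exact Subgroup.mem_sup_right (Subgroup.mem_zpowers _))
        rw [hD2] at h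
        obtain ⟨j, hj⟩ := h
        rw [hcardC, hj]
        have : j ≠ 0 := fun e => by
          have h0 : 0 < Nat.card (D ⊔ Subgroup.zpowers (c * s * c⁻¹) : Subgroup G) := Nat.card_pos
          omega
        omega

end CfsgLib.BrauerSuzukiWall
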