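import Cfsg.Agent.BrauerSuzukiWall.Centralizers
import Mathlib

/-!
The conclusion of the Brauer–Suzuki–Wall theorem, and the case `q = 2|K| + 1`.
-/

set_option autoImplicit false

namespace CfsgLib.BrauerSuzukiWall

open Cfsg CfsgLib.Chars

variable {G : Type*} [Group G]

/-- The conclusion of the abstract Brauer–Suzuki–Wall theorem. -/
def Conclusion (Q D : Subgroup G) : Prop :=
  2 * Nat.card G = Nat.card ↥Q * (Nat.card ↥Q + 1) * (Nat.card ↥Q - 1) ∧
    (∀ x ∈ Q, x ≠ 1 → Subgroup.centralizer ({x} : Set G) = Q) ∧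
    IsMulCommutative ↥D ∧ 2 * Nat.card ↥D + 1 = Nat.card ↥Q ∧ Q ⊓ D = ⊥ ∧
    Subgroup.normalizer (Q : Set G) = Q ⊔ D ∧
    ∀ X : Subgroup G, X ≤ D → X ≠ ⊥ →
      Subgroup.normalizer (X : Set G) = Subgroup.normalizer (D : Set G) ∧
      ∃ u : G, orderOf u = 2 ∧ u ∉ D ∧ (∀ d ∈ D, u * d * u⁻¹ = d⁻¹) ∧
        Subgroup.normalizer (D : Set G) = D ⊔ Subgroup.zpowers u

theorem conj_symm {c x y : G} : c * x * c⁻¹ = y ↔ x = c⁻¹ * y * c := by
  constructor <;> intro h <;> [rw [← h]; rw [h]] <;> group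

variable [Finite G] {t : G} {K : Subgroup G} {s : G} {a : IrrCharacter G} {ε M : ℤ} {q L : ℕ}
variable (hS : Setting t K s a ε M q L)
include hS

theorem Setting.exists_of_dvd {r : ℕ} (hr : r = q ∨ r = L) :
    ∃ g : G, g ≠ 1 ∧ orderOf g ∣ r ∧ (orderOf g).Prime := by
  obtain ⟨h1, h2⟩ := hS.one_lt
  obtain ⟨p, hp, hpr⟩ := Nat.exists_prime_and_dvd (n := r) (by rcases hr with rfl | rfl <;> omega)
  haveI := Fact.mk hp
  obtain ⟨g, hg⟩ := exists_prime_orderOf_dvd_card' (G := G) p (by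
    rw [hS.card]; rcases hr with rfl | rfl
    exacts [(hpr.mul_left _).mul_right _, hpr.mul_left _])
  exact ⟨g, fun e => hp.one_lt.ne' (by rw [← hg, e, orderOf_one]), hg ▸ hpr, hg.symm ▸ hp⟩

/-- The case `q = 2|K| + 1`. -/
theorem Setting.conclusion_plus (hM : M = 2) : ∃ Q D : Subgroup G, Conclusion Q D := by
  have hD := hS.data
  have hk := hS.four_le
  obtain ⟨hq1, hL1⟩ := hS.one_lt
  obtain ⟨hq, hL⟩ : q = 2 * Nat.card K + 1 ∧ L = Nat.card K + 1 := by
    rcases hS.cases with h | h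
    · exact h.2
    · omega
  obtain ⟨g₀, hg₀, hg₀q, -⟩ := hS.exists_of_dvd (.inl rfl)
  obtain ⟨-, -, ⟨u, hu, hug⟩, -⟩ := hS.inverted (.inr ⟨rfl, hM⟩) hg₀ hg₀q
  obtain ⟨c, hc⟩ := isConj_iff.mp (hD.conj u hu)
  set g := c⁻¹ * g₀ * c with hgd
  have hgeq : g = c⁻¹ * g₀ * c⁻¹⁻¹ := by rw [inv_inv, hgd]
  have hg : g ≠ 1 := fun e => hg₀ (by
    calc g₀ = c * g * c⁻¹ := by rw [hgd]; group
      _ = 1 := by rw [e]; group)
  have hgq : orderOf g ∣ q := by rw [hgeq, orderOf_conj_eq]; exact hg₀q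
  have htg : orderOf (t * g) = 2 := by
    rw [show t * g = c⁻¹ * (u * g₀) * c⁻¹⁻¹ by rw [hgd, ← hc]; group, orderOf_conj_eq]
    exact hug
  obtain ⟨hQ, hQab, -, hQinv⟩ := hS.inverted (.inr ⟨rfl, hM⟩) hg hgq
  set Q := Subgroup.centralizer ({g} : Set G) with hQd
  have hgQ : g ∈ Q := Subgroup.mem_centralizer_singleton_iff.mpr rfl
  have hQodd : Odd (Nat.card Q) := hQ ▸ hS.odd_of_dvd (.inl rfl) dvd_rfl
  have hno2 : ∀ x ∈ Q, orderOf x ≠ 2 := fun x hx e => by
    have h := hQodd.of_dvd_nat (Subgroup.orderOf_dvd_natCard _ hx)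
    rw [e] at h
    exact absurd h (by decide)
  -- the order of the normaliser
  set N := Subgroup.normalizer (Q : Set G) with hN
  have hNcard : Nat.card N = q * Nat.card K := by
    have h1 := hS.card_kind (.inr ⟨rfl, hM⟩) hg hgq
    have h2 := hS.card_kinds.2
    rw [h1] at h2
    have h3 : N.index = q + 1 := by
      have h4 : ((N.index * (q - 1) + 1 : ℕ) : ℤ) = ((q * q : ℕ) : ℤ) := by rw [h2]
      push_cast [Nat.cast_sub hq1.le] at h4
      have hne : (q : ℤ) - 1 ≠ 0 := by omega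
      have h5 : (N.index : ℤ) = (q : ℤ) + 1 :=
        mul_right_cancel₀ hne (by linear_combination h4)
      exact_mod_cast h5
    have h6 := N.card_mul_index
    rw [h3, hS.card, show q + 1 = 2 * L by omega,
      show 2 * Nat.card K * q * L = q * Nat.card K * (2 * L) by ring] at h6
    exact Nat.eq_of_mul_eq_mul_right (by omega) h6
  -- `N(Q) ∩ C(t)` lies in `K`
  set T := N ⊓ Subgroup.centralizer ({t} : Set G) with hTd
  have hfix : ∀ m : G, orderOf m = 2 → m ∈ N → m * g * m⁻¹ = g⁻¹ := by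
    intro m hm hmN
    have hm2 := (orderOf_eq_two_iff'.mp hm).1
    have hmi := inv_eq_of_mul_eq_one_right hm2
    have hz : g * (m * g * m⁻¹) ∈ Q :=
      Q.mul_mem hgQ ((Subgroup.mem_normalizer_iff.mp hmN g).mp hgQ)
    by_contra hne
    have hz1 : g * (m * g * m⁻¹) ≠ 1 := fun e => hne (eq_inv_of_mul_eq_one_right e)
    have hcomm : m * (g * (m * g * m⁻¹)) = g * (m * g * m⁻¹) * m := by
      have e1 : m * (g * (m * g * m⁻¹)) * m⁻¹ = g * (m * g * m⁻¹) := by
        calc m * (g * (m * g * m⁻¹)) * m⁻¹ = m * g * m⁻¹ * (m * m * g * (m * m)⁻¹) := by group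
          _ = m * g * m⁻¹ * g := by rw [hm2]; group
          _ = g * (m * g * m⁻¹) :=
            hQab _ ((Subgroup.mem_normalizer_iff.mp hmN g).mp hgQ) g hgQ
      exact mul_inv_eq_iff_eq_mul.mp e1
    refine hno2 m ?_ hm
    rw [hQd, ← (hS.centralizer_eq_of_mem (.inr ⟨rfl, hM⟩) hg hgq hz hz1).2]
    exact Subgroup.mem_centralizer_singleton_iff.mpr hcomm
  have htinv := hQinv t hD.t_ord htg
  have hT : T ≤ K := by
    intro m hm
    obtain ⟨hmN, hmC⟩ := Subgroup.mem_inf.mp hm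
    by_contra hmK
    rcases hD.list m (Subgroup.mem_centralizer_singleton_iff.mp hmC) with h | h
    · exact hmK h
    have hm2 : orderOf m = 2 := by
      have := hD.orderOf_smul h
      rwa [← mul_assoc, hD.s_sq, one_mul] at this
    have hc' := Subgroup.mem_centralizer_singleton_iff.mp hmC
    refine hno2 (t * m) ?_ (orderOf_eq_two_iff'.mpr ⟨?_, fun e => hmK ?_⟩)
    · rw [hQd, Subgroup.mem_centralizer_singleton_iff]
      calc t * m * g = t * (m * g * m⁻¹) * m := by group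
        _ = t * g⁻¹ * t⁻¹ * (t * m) := by rw [hfix m hm2 hmN]; group
        _ = (t * g * t⁻¹)⁻¹ * (t * m) := by group
        _ = g * (t * m) := by rw [htinv g hgQ, inv_inv]
    · calc t * m * (t * m) = t * (m * t) * m := by group
        _ = (t * t) * (m * m) := by rw [hc']; group
        _ = 1 := by rw [hD.t_sq, (orderOf_eq_two_iff'.mp hm2).1, one_mul]
    · rw [eq_inv_of_mul_eq_one_right e, hD.t_inv]; exact hD.t_mem
  -- every element of `N(Q)` is in `Q T`
  have hsplit : ∀ x ∈ N, ∃ d ∈ Q, d * x ∈ T := by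
    intro x hx
    have hxg : x⁻¹ * g * x ∈ Q := (Subgroup.mem_normalizer_iff'' (H := Q).mp hx g).mp hgQ
    have hw : x * t * x⁻¹ * g * (x * t * x⁻¹)⁻¹ = g⁻¹ := by
      calc x * t * x⁻¹ * g * (x * t * x⁻¹)⁻¹ = x * (t * (x⁻¹ * g * x) * t⁻¹) * x⁻¹ := by group
        _ = g⁻¹ := by rw [htinv _ hxg]; group
    set z := t * (x * t * x⁻¹) with hz
    have hzQ : z ∈ Q := by
      rw [hQd, Subgroup.mem_centralizer_singleton_iff]
      calc z * g = t * (x * t * x⁻¹ * g * (x * t * x⁻¹)⁻¹) * (x * t * x⁻¹) := by rw [hz]; group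
        _ = (t * g * t⁻¹)⁻¹ * z := by rw [hw, hz]; group
        _ = g * z := by rw [htinv g hgQ, inv_inv]
    obtain ⟨j, hj⟩ := hQodd
    set d := z ^ (j + 1) with hd
    have hdQ : d ∈ Q := Q.pow_mem hzQ _
    have hdd : d * d = z := by
      have h1 : z ^ Nat.card Q = 1 := by
        exact congrArg Subtype.val (pow_card_eq_one' (x := (⟨z, hzQ⟩ : Q)))
      rw [hd, ← pow_add, show j + 1 + (j + 1) = Nat.card Q + 1 by omega, pow_succ, h1, one_mul]
    refine ⟨d, hdQ, N.mul_mem (Subgroup.le_normalizer hdQ) hx, ?_⟩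
    refine Subgroup.mem_centralizer_singleton_iff.mpr ?_
    have h2 : x * t * x⁻¹ = t * z := by rw [hz, ← mul_assoc, hD.t_sq, one_mul]
    have h3 := htinv d hdQ
    calc d * x * t = d * (x * t * x⁻¹) * x := by group
      _ = d * (t * (d * d)) * x := by rw [h2, hdd]
      _ = d * (t * d * t⁻¹) * t * d * x := by group
      _ = t * (d * x) := by rw [h3]; group
  have hcardT : Nat.card K ≤ Nat.card T := by
    choose d hd hdx using hsplit
    have hinj : Function.Injective fun x : N => ((⟨d x x.2, hd x x.2⟩ : Q),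
        (⟨d x x.2 * x, hdx x x.2⟩ : T)) := by
      intro x y e
      have e1 : d x x.2 = d y y.2 := congrArg Subtype.val (Prod.ext_iff.mp e).1
      have e2 : d x x.2 * x = d y y.2 * y := congrArg Subtype.val (Prod.ext_iff.mp e).2
      rw [e1] at e2
      exact Subtype.ext (mul_left_cancel e2)
    have h := Nat.card_le_card_of_injective _ hinj
    rw [Nat.card_prod, hNcard, hQ] at h
    exact Nat.le_of_mul_le_mul_left h (by omega)
  have hTK : T = K := Subgroup.eq_of_le_of_card_ge hT hcardT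
  have hKN : K ≤ N := hTK ▸ inf_le_left
  refine ⟨Q, K, ?_, ?_, ⟨⟨fun x y => Subtype.ext (hD.comm x x.2 y y.2)⟩⟩, ?_, ?_, ?_, ?_⟩
  · rw [hQ, hS.card, show q + 1 = 2 * L by omega, show q - 1 = 2 * Nat.card K by omega]
    ring
  · exact fun x hx hx1 => (hS.centralizer_eq_of_mem (.inr ⟨rfl, hM⟩) hg hgq hx hx1).2
  · rw [hQ, hq]
  · rw [Subgroup.eq_bot_iff_forall]
    intro x hx
    obtain ⟨h1, h2⟩ := Subgroup.mem_inf.mp hx
    exact orderOf_eq_one_iff.mp (Nat.eq_one_of_dvd_coprimes hS.coprime_k_q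
      ((Subgroup.orderOf_dvd_natCard _ h2).trans (dvd_mul_left _ 2))
      (hQ ▸ Subgroup.orderOf_dvd_natCard _ h1))
  · refine le_antisymm (fun x hx => ?_) (sup_le Subgroup.le_normalizer hKN)
    obtain ⟨d, hd, hdx⟩ := hsplit x hx
    rw [show x = d⁻¹ * (d * x) by group]
    exact Subgroup.mul_mem_sup (Q.inv_mem hd) (hT hdx)
  · intro X hX hX1
    have hKne : K ≠ ⊥ := fun e => hX1 (le_bot_iff.mp (e ▸ hX))
    rw [hD.normalizer_eq hX hX1, hD.normalizer_eq le_rfl hKne]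
    exact ⟨rfl, s, hD.s_ord, hD.s_not, hD.inverts, hD.centralizer_eq_sup⟩

end CfsgLib.BrauerSuzukiWall
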