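import Cfsg.Agent.BrauerSuzukiWall.MinusSylow
import Cfsg.Agent.BrauerSuzukiWall.SplitPlus
import Mathlib

/-!
The case `q = 2|K| - 1` of the Brauer–Suzuki–Wall theorem.
-/

set_option autoImplicit false

namespace CfsgLib.BrauerSuzukiWall

open Cfsg CfsgLib.Chars

variable {G : Type*} [Group G] [Finite G] {t : G} {K : Subgroup G} {s : G}
  {a : IrrCharacter G} {ε M : ℤ} {q L : ℕ}
variable (hS : Setting t K s a ε M q L)
include hS

/-- A subgroup of order `L` is the centraliser of each of its non-identity elements. -/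
theorem Setting.centralizer_of_card_L (hM : M = -2) {D : Subgroup G} (hD : Nat.card D = L)
    {z : G} (hz : z ∈ D) (hz1 : z ≠ 1) : Subgroup.centralizer ({z} : Set G) = D := by
  have hord : ∀ x ∈ D, orderOf x ∣ L := fun x hx => hD ▸ Subgroup.orderOf_dvd_natCard _ hx
  have hLq : Nat.Coprime L q := hS.coprime_q_L.symm
  have count : ∀ z : D, z ≠ 1 → ∃ b i : ℕ, 2 ≤ b ∧ b * i = L ∧
      Nat.card {g : D // ∃ x ∈ (Subgroup.centralizer ({(z : G)} : Set G)).subgroupOf D,
        x ≠ 1 ∧ IsConj x g} = i * (b - 1) ∧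
      (i = 1 → D ≤ Subgroup.centralizer ({(z : G)} : Set G)) := by
    intro z hz1
    have hz1' : (z : G) ≠ 1 := fun e => hz1 (Subtype.ext e)
    set A := (Subgroup.centralizer ({(z : G)} : Set G)).subgroupOf D with hA
    refine ⟨Nat.card A, A.index, ?_, ?_, ?_, fun h => ?_⟩
    · haveI : Nontrivial A := ⟨⟨⟨z, Subgroup.mem_subgroupOf.mpr
        (Subgroup.mem_centralizer_singleton_iff.mpr rfl)⟩, 1, fun e => hz1 (congrArg Subtype.val e)⟩⟩
      exact Finite.one_lt_card
    · rw [A.card_mul_index, hD]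
    · refine card_conj_set A A (fun g hg x hx => A.mul_mem (A.mul_mem hg hx) (A.inv_mem hg))
        fun g x hx hx1 hgx => ?_
      have hx' : (x : G) ∈ Subgroup.centralizer ({(z : G)} : Set G) := Subgroup.mem_subgroupOf.mp hx
      have h1 := (hS.centralizer_eq_of_mem (.inl rfl) hz1' (hord _ z.2) hx'
        (fun e => hx1 (Subtype.ext e))).2
      have hxL := hord _ x.2
      obtain ⟨-, hclose⟩ := hS.other_kind hM (w := (x : G)) (fun e => hx1 (Subtype.ext e))
        (hS.odd_of_dvd (.inr rfl) hxL) (hLq.coprime_dvd_left hxL)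
      rw [h1] at hclose
      exact Subgroup.mem_subgroupOf.mpr (hclose g (hS.odd_of_dvd (.inr rfl) (hord _ g.2))
        (by simpa using Subgroup.mem_subgroupOf.mp hgx))
    · intro y hy
      have h2 : (⟨y, hy⟩ : D) ∈ A := by rw [Subgroup.index_eq_one.mp h]; trivial
      exact Subgroup.mem_subgroupOf.mp h2
  obtain ⟨b₁, i₁, hb₁, hbi₁, hc₁, hle₁⟩ := count ⟨z, hz⟩ (fun e => hz1 (congrArg Subtype.val e))
  suffices hle : D ≤ Subgroup.centralizer ({z} : Set G) by
    refine (Subgroup.eq_of_le_of_card_ge hle ?_).symm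
    rw [(hS.inverted (.inl rfl) hz1 (hord z hz)).1, hD]
  refine hle₁ ?_
  by_contra hne
  -- an element outside the conjugates of the first centraliser
  have hL1 := hS.one_lt.2
  have hcard1 : Nat.card {x : D // x ≠ 1} = L - 1 := by
    classical
    letI := Fintype.ofFinite D
    rw [Nat.card_eq_fintype_card, Fintype.card_subtype_compl, Fintype.card_subtype_eq,
      ← Nat.card_eq_fintype_card, hD]
  have hlt : i₁ * (b₁ - 1) < L - 1 := by
    have h1 : (i₁ * (b₁ - 1) : ℤ) = L - i₁ := by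
      have : ((b₁ * i₁ : ℕ) : ℤ) = L := by rw [hbi₁]
      push_cast at this
      linear_combination this
    have hi : i₁ ≠ 0 := fun e => by subst e; simp at hbi₁; omega
    have h1' : ((i₁ * (b₁ - 1) : ℕ) : ℤ) = L - i₁ := by
      rw [Nat.cast_mul, Nat.cast_sub (by omega)]; push_cast; exact h1
    omega
  let S₁ := {g : D // ∃ x ∈ (Subgroup.centralizer ({z} : Set G)).subgroupOf D,
    x ≠ 1 ∧ IsConj x g}
  obtain ⟨z', hz'1, hz'⟩ : ∃ z' : D, z' ≠ 1 ∧
      ¬ ∃ x ∈ (Subgroup.centralizer ({z} : Set G)).subgroupOf D, x ≠ 1 ∧ IsConj x z' := by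
    by_contra hno
    push Not at hno
    have h := Nat.card_le_card_of_injective
      (fun x : {x : D // x ≠ 1} => (⟨x.1, hno x.1 x.2⟩ : S₁))
      (fun x y e => Subtype.ext (congrArg (fun w : S₁ => w.1) e))
    rw [hcard1, hc₁] at h
    omega
  obtain ⟨b₂, i₂, hb₂, hbi₂, hc₂, -⟩ := count z' hz'1
  let S₂ := {g : D // ∃ x ∈ (Subgroup.centralizer ({(z' : G)} : Set G)).subgroupOf D,
    x ≠ 1 ∧ IsConj x g}
  have hz'1' : (z' : G) ≠ 1 := fun e => hz'1 (Subtype.ext e)
  have hne1 : ∀ {x g : D}, x ≠ 1 → IsConj x g → g ≠ 1 := fun hx hc e =>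
    hx (isConj_one_left.mp (e ▸ hc))
  let f : S₁ ⊕ S₂ → {x : D // x ≠ 1} := Sum.elim
    (fun g => ⟨g.1, by obtain ⟨x, -, hx, hc⟩ := g.2; exact hne1 hx hc⟩)
    (fun g => ⟨g.1, by obtain ⟨x, -, hx, hc⟩ := g.2; exact hne1 hx hc⟩)
  have hdis : ∀ g : D, (∃ x ∈ (Subgroup.centralizer ({z} : Set G)).subgroupOf D,
        x ≠ 1 ∧ IsConj x g) →
      (∃ x ∈ (Subgroup.centralizer ({(z' : G)} : Set G)).subgroupOf D, x ≠ 1 ∧ IsConj x g) →
      False := by
    rintro g ⟨x, hx, hx1, hxg⟩ ⟨y, hy, hy1, hyg⟩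
    obtain ⟨c, hc⟩ := isConj_iff.mp (hxg.trans hyg.symm)
    have hy1' : (y : G) ≠ 1 := fun e => hy1 (Subtype.ext e)
    have hx1' : (x : G) ≠ 1 := fun e => hx1 (Subtype.ext e)
    have h1 := (hS.centralizer_eq_of_mem (.inl rfl) hz'1' (hord _ z'.2)
      (Subgroup.mem_subgroupOf.mp hy) hy1').2
    have h2 := (hS.centralizer_eq_of_mem (.inl rfl) hz1 (hord _ hz)
      (Subgroup.mem_subgroupOf.mp hx) hx1').2
    have hzy : (z' : G) ∈ Subgroup.centralizer ({(y : G)} : Set G) := by
      rw [h1]; exact Subgroup.mem_centralizer_singleton_iff.mpr rfl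
    refine hz' ⟨c⁻¹ * z' * c, Subgroup.mem_subgroupOf.mpr ?_, fun e => hz'1 ?_,
      isConj_iff.mpr ⟨c, by group⟩⟩
    · rw [← h2, Subgroup.mem_centralizer_singleton_iff]
      have h3 := Subgroup.mem_centralizer_singleton_iff.mp hzy
      rw [← hc] at h3
      simp only [Subgroup.coe_mul, Subgroup.coe_inv] at h3 ⊢
      calc (c : G)⁻¹ * z' * c * x = (c : G)⁻¹ * (z' * (c * x * (c : G)⁻¹)) * c := by group
        _ = (c : G)⁻¹ * (c * x * (c : G)⁻¹ * z') * c := by rw [h3]
        _ = x * ((c : G)⁻¹ * z' * c) := by group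
    · calc z' = c * (c⁻¹ * z' * c) * c⁻¹ := by group
        _ = 1 := by rw [e]; group
  have hf : Function.Injective f := by
    rintro (g | g) (g' | g') e <;> simp only [f, Sum.elim_inl, Sum.elim_inr, Subtype.mk.injEq] at e
    · exact congrArg Sum.inl (Subtype.ext e)
    · exact (hdis g.1 g.2 (e ▸ g'.2)).elim
    · exact (hdis g'.1 g'.2 (e ▸ g.2)).elim
    · exact congrArg Sum.inr (Subtype.ext e)
  have h := Nat.card_le_card_of_injective f hf
  rw [Nat.card_sum, hc₁, hc₂, hcard1] at h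
  have hA : L ≤ 2 * (i₁ * (b₁ - 1)) := by
    calc L = i₁ * b₁ := by rw [← hbi₁, mul_comm]
      _ ≤ i₁ * (2 * (b₁ - 1)) := Nat.mul_le_mul_left _ (by omega)
      _ = _ := by ring
  have hB : L ≤ 2 * (i₂ * (b₂ - 1)) := by
    calc L = i₂ * b₂ := by rw [← hbi₂, mul_comm]
      _ ≤ i₂ * (2 * (b₂ - 1)) := Nat.mul_le_mul_left _ (by omega)
      _ = _ := by ring
  omega

/-- The case `q = 2|K| - 1`. -/
theorem Setting.conclusion_minus (hM : M = -2) : ∃ Q D : Subgroup G, Conclusion Q D := by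
  obtain ⟨hq1, hL1⟩ := hS.one_lt
  have hk := hS.four_le
  obtain ⟨hq, hL⟩ : q + 1 = 2 * Nat.card K ∧ L + 1 = Nat.card K := by
    rcases hS.cases with h | h
    · omega
    · exact h.2
  obtain ⟨p, hp, hpq, hqpow, -⟩ := hS.exists_prime hM
  haveI := Fact.mk hp
  obtain ⟨Q⟩ : Nonempty (Sylow p G) := inferInstance
  have hQ : Nat.card (Q : Subgroup G) = q := by rw [Q.card_eq_multiplicity, ← hqpow]
  have hQc : ∀ x ∈ (Q : Subgroup G), x ≠ 1 →
      Subgroup.centralizer ({x} : Set G) = (Q : Subgroup G) := fun x hx hx1 =>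
    hS.sylow_facts hM hpq hqpow Q hx hx1
  -- the order of the normaliser
  set N := Subgroup.normalizer ((Q : Subgroup G) : Set G) with hN
  have hNcard : Nat.card N = q * L := by
    have h1 : Nat.card {x : G // x ≠ 1 ∧ orderOf x ∣ q} = N.index * (q - 1) := by
      rw [← hQ, ← card_conj_set (Q : Subgroup G) N
        (fun n hn x hx => (Subgroup.mem_normalizer_iff.mp hn x).mp hx)]
      · refine Nat.card_congr (Equiv.subtypeEquivRight fun x => ⟨fun ⟨hx1, hxq⟩ => ?_, ?_⟩)
        · rw [hQ] at hxq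
          obtain ⟨T, hT⟩ := (IsPGroup.of_card (n := (Nat.card G).factorization p) (by
            rw [(hS.two_classes hM hx1 hxq).1, ← hqpow]) :
              IsPGroup p (Subgroup.centralizer ({x} : Set G))).exists_le_sylow
          obtain ⟨c, hc⟩ := MulAction.exists_smul_eq G T Q
          refine ⟨c * x * c⁻¹, ?_, fun e => hx1 (conj_eq_one_iff.mp e),
            isConj_iff.mpr ⟨c⁻¹, by group⟩⟩
          rw [← hc]
          exact Subgroup.mem_map.mpr ⟨x, hT (Subgroup.mem_centralizer_singleton_iff.mpr rfl), rfl⟩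
        · rintro ⟨y, hy, hy1, hc⟩
          obtain ⟨c, rfl⟩ := isConj_iff.mp hc
          exact ⟨fun e => hy1 (conj_eq_one_iff.mp e),
            by rw [orderOf_conj_eq]; exact Subgroup.orderOf_dvd_natCard _ hy⟩
      · intro c x hx hx1 hcx
        refine Subgroup.mem_normalizer_iff.mpr fun y => ?_
        conv_lhs => rw [← hQc x hx hx1]
        conv_rhs => rw [← hQc _ hcx (fun e => hx1 (conj_eq_one_iff.mp e))]
        rw [Subgroup.mem_centralizer_singleton_iff, Subgroup.mem_centralizer_singleton_iff]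
        constructor <;> intro h
        · calc c * y * c⁻¹ * (c * x * c⁻¹) = c * (y * x) * c⁻¹ := by group
            _ = c * (x * y) * c⁻¹ := by rw [h]
            _ = c * x * c⁻¹ * (c * y * c⁻¹) := by group
        · calc y * x = c⁻¹ * (c * y * c⁻¹ * (c * x * c⁻¹)) * c := by group
            _ = x * y := by rw [h]; group
    have h2 := hS.card_kinds.2
    rw [h1] at h2
    have hne : (q : ℤ) - 1 ≠ 0 := by omega
    have h4 : ((N.index * (q - 1) + 1 : ℕ) : ℤ) = ((q * q : ℕ) : ℤ) := by rw [h2]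
    push_cast [Nat.cast_sub hq1.le] at h4
    have h5 : (N.index : ℤ) = (q : ℤ) + 1 := mul_right_cancel₀ hne (by linear_combination h4)
    have h5' : N.index = q + 1 := by exact_mod_cast h5
    have h6 := N.card_mul_index
    rw [h5', hS.card, hq, show 2 * Nat.card K * q * L = q * L * (2 * Nat.card K) by ring] at h6
    exact Nat.eq_of_mul_eq_mul_right (by omega) h6
  -- a complement
  haveI : ((Q : Subgroup G).subgroupOf N).Normal := Subgroup.normal_in_normalizer
  have hQN : Nat.card ((Q : Subgroup G).subgroupOf N) = q := by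
    rw [Nat.card_congr (Subgroup.subgroupOfEquivOfLe Subgroup.le_normalizer).toEquiv, hQ]
  have hidx : ((Q : Subgroup G).subgroupOf N).index = L := by
    have h := ((Q : Subgroup G).subgroupOf N).card_mul_index
    rw [hQN, hNcard] at h
    exact Nat.eq_of_mul_eq_mul_left (by omega) h
  obtain ⟨H, hH⟩ := Subgroup.exists_right_complement'_of_coprime
    (N := (Q : Subgroup G).subgroupOf N) (by rw [hQN, hidx]; exact hS.coprime_q_L)
  set D := H.map N.subtype with hDd
  have hDL : Nat.card D = L := by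
    have h := hH.card_mul
    rw [hQN, hNcard] at h
    rw [hDd, Subgroup.card_map_of_injective N.subtype_injective]
    exact Nat.eq_of_mul_eq_mul_left (by omega) h
  obtain ⟨z, hzD, hz1⟩ : ∃ z ∈ D, z ≠ 1 := by
    haveI : Nontrivial D := Finite.one_lt_card_iff_nontrivial.mp (by omega)
    obtain ⟨⟨z, hz⟩, hz1⟩ := exists_ne (1 : D)
    exact ⟨z, hz, fun e => hz1 (Subtype.ext e)⟩
  have hzL : orderOf z ∣ L := hDL ▸ Subgroup.orderOf_dvd_natCard _ hzD
  have hDz := hS.centralizer_of_card_L hM hDL hzD hz1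
  obtain ⟨-, hab, ⟨u, hu, huz⟩, hinv⟩ := hS.inverted (.inl rfl) hz1 hzL
  rw [hDz] at hab hinv
  have hinv' := hinv u hu huz
  have hu2 := (orderOf_eq_two_iff'.mp hu).1
  have huD : u ∉ D := fun h => by
    have h1 := hS.odd_of_dvd (.inr rfl) (hDL ▸ Subgroup.orderOf_dvd_natCard _ h)
    rw [hu] at h1
    exact absurd h1 (by decide)
  have huN : ∀ X : Subgroup G, X ≤ D → D ⊔ Subgroup.zpowers u ≤ Subgroup.normalizer (X : Set G) := by
    intro X hX
    refine sup_le (fun d hd => Subgroup.mem_normalizer_iff.mpr fun x => ?_)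
      (Subgroup.zpowers_le.mpr (Subgroup.mem_normalizer_iff.mpr fun x => ?_))
    · constructor <;> intro hx
      · rwa [hab d hd x (hX hx), mul_inv_cancel_right]
      · have h := hab d hd _ (hX hx)
        rw [show x = d⁻¹ * (d * x * d⁻¹ * d) by group, ← h]
        simpa [mul_assoc] using hx
    · constructor <;> intro hx
      · rw [hinv' x (hX hx)]; exact X.inv_mem hx
      · have h := hinv' _ (hX hx)
        rw [show u * (u * x * u⁻¹) * u⁻¹ = x by
          calc u * (u * x * u⁻¹) * u⁻¹ = (u * u) * x * (u * u)⁻¹ := by group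
            _ = x := by rw [hu2]; group] at h
        rw [h]; exact X.inv_mem hx
  have hND : Subgroup.normalizer (D : Set G) = D ⊔ Subgroup.zpowers u := by
    refine (Subgroup.eq_of_le_of_card_ge (huN D le_rfl) ?_).symm
    rw [← hDz, hS.normalizer_L hM hz1 hzL, hDz]
    obtain ⟨j, hj⟩ := Subgroup.card_dvd_of_le (le_sup_left : D ≤ D ⊔ Subgroup.zpowers u)
    rw [hDL] at hj
    have hj1 : j ≠ 1 := fun e => huD (by
      rw [Subgroup.eq_of_le_of_card_ge (le_sup_left : D ≤ D ⊔ Subgroup.zpowers u)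
        (by rw [hj, hDL, e, mul_one])]
      exact Subgroup.mem_sup_right (Subgroup.mem_zpowers u))
    have hj0 : j ≠ 0 := fun e => by
      have h0 : 0 < Nat.card (D ⊔ Subgroup.zpowers u : Subgroup G) := Nat.card_pos
      rw [hj, e, mul_zero] at h0
      exact lt_irrefl 0 h0
    rw [hj, mul_comm]
    exact Nat.mul_le_mul_left _ (by omega)
  refine ⟨(Q : Subgroup G), D, ?_, hQc, ⟨⟨fun x y => Subtype.ext (hab x x.2 y y.2)⟩⟩, ?_, ?_, ?_, ?_⟩
  · rw [hQ, hS.card, hq, show q - 1 = 2 * L by omega]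
    ring
  · rw [hQ, hDL]; omega
  · rw [Subgroup.eq_bot_iff_forall]
    intro x hx
    exact orderOf_eq_one_iff.mp (Nat.eq_one_of_dvd_coprimes hS.coprime_q_L
      (hQ ▸ Subgroup.orderOf_dvd_natCard _ hx.1) (hDL ▸ Subgroup.orderOf_dvd_natCard _ hx.2))
  · refine le_antisymm (fun x hx => ?_) (sup_le Subgroup.le_normalizer (Subgroup.map_subtype_le H))
    have h := hH.sup_eq_top
    have hx' : (⟨x, hx⟩ : N) ∈ (Q : Subgroup G).subgroupOf N ⊔ H := by rw [h]; trivial
    have h2 := Subgroup.mem_map_of_mem N.subtype hx'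
    rw [Subgroup.map_sup, Subgroup.map_subgroupOf_eq_of_le Subgroup.le_normalizer] at h2
    exact h2
  · intro X hX hX1
    refine ⟨le_antisymm (fun g hg => ?_) (hND ▸ huN X hX), u, hu, huD, hinv', hND⟩
    obtain ⟨⟨x, hxX⟩, hx1⟩ := Subgroup.ne_bot_iff_exists_ne_one.mp hX1
    have hx1' : x ≠ 1 := fun e => hx1 (Subtype.ext e)
    have h1 := hS.centralizer_of_card_L hM hDL (hX hxX) hx1'
    have h2 := hS.centralizer_of_card_L hM hDL
      (hX ((Subgroup.mem_normalizer_iff.mp hg x).mp hxX)) (fun e => hx1' (conj_eq_one_iff.mp e))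
    refine Subgroup.mem_normalizer_iff.mpr fun y => ?_
    conv_lhs => rw [← h1]
    conv_rhs => rw [← h2]
    rw [Subgroup.mem_centralizer_singleton_iff, Subgroup.mem_centralizer_singleton_iff]
    constructor <;> intro h
    · calc g * y * g⁻¹ * (g * x * g⁻¹) = g * (y * x) * g⁻¹ := by group
        _ = g * (x * y) * g⁻¹ := by rw [h]
        _ = g * x * g⁻¹ * (g * y * g⁻¹) := by group
    · calc y * x = g⁻¹ * (g * y * g⁻¹ * (g * x * g⁻¹)) * g := by group
        _ = x * y := by rw [h]; group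

end CfsgLib.BrauerSuzukiWall
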